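import Cfsg.Agent.Sym.Reg
import Cfsg.Prelude.Def_BlockRank
import Mathlib.Data.Sym.Card

/-!
# The upper bound for `l(B)` for blocks of symmetric groups
-/

namespace Cfsg.Agent.SymCh

open Finset Function Equiv Cfsg Cfsg.Agent.Char Cfsg.Agent.Block

variable {N : ℕ}

/-- Moving a bead on one runner. -/
noncomputable def Mo (p : ℕ) (x : ℕ × ℕ) : Fn N →ₗ[ℂ] Fn N := up (p * x.1) fun b => b % p = x.2

theorem Mo_comm (p : ℕ) (x y : ℕ × ℕ) (F : Fn N) : Mo p x (Mo p y F) = Mo p y (Mo p x F) :=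
  up_up_comm (fun b => by simp) (fun b => by simp) F

instance (p : ℕ) : LeftCommutative fun (x : ℕ × ℕ) (F : Fn N) => Mo p x F := ⟨Mo_comm p⟩

/-- Products of the runner operators. -/
noncomputable def act (p : ℕ) (μ : Multiset (ℕ × ℕ)) (F : Fn N) : Fn N :=
  μ.foldr (fun x G => Mo p x G) F

theorem act_cons (p : ℕ) (x : ℕ × ℕ) (μ : Multiset (ℕ × ℕ)) (F : Fn N) :
    act p (x ::ₘ μ) F = Mo p x (act p μ F) := Multiset.foldr_cons _ _ _ _

/-- The `(p-1)`-multipartitions of `w`. -/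
def Ix (p w : ℕ) : Set (Multiset (ℕ × ℕ)) :=
  {μ | (∀ x ∈ μ, 1 ≤ x.1 ∧ x.2 ∈ Ico 1 p) ∧ (μ.map Prod.fst).sum = w}

/-- The singular part. -/
noncomputable def SS (N p : ℕ) : Submodule ℂ (Fn N) := ⨆ r : ℕ, (Anti N).map (U (p * (r + 1)))

/-- The regular part. -/
noncomputable def TT (p : ℕ) (κ : Fin N → ℕ) (w : ℕ) : Submodule ℂ (Fn N) :=
  Submodule.span ℂ ((fun μ => act p μ (alt κ)) '' Ix p w)

theorem Mo_mem_SS (p : ℕ) (x : ℕ × ℕ) {F : Fn N} (hF : F ∈ SS N p) : Mo p x F ∈ SS N p := by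
  refine Submodule.iSup_induction _ (motive := fun F => Mo p x F ∈ SS N p) hF ?_ (by simp) ?_
  · rintro r _ ⟨G, hG, rfl⟩
    refine Submodule.mem_iSup_of_mem r ⟨Mo p x G, up_mem hG _ _, ?_⟩
    exact up_up_comm (fun b => by simp) (fun b => by simp) G
  · intro F G hF hG
    rw [map_add]; exact add_mem hF hG

theorem Mo_mem_TT {p : ℕ} {κ : Fin N → ℕ} {w : ℕ} {x : ℕ × ℕ} (h1 : 1 ≤ x.1) (h2 : x.2 ∈ Ico 1 p)
    {F : Fn N} (hF : F ∈ TT p κ w) : Mo p x F ∈ TT p κ (x.1 + w) := by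
  have : (TT p κ w).map (Mo p x) ≤ TT p κ (x.1 + w) := by
    rw [TT, Submodule.map_span_le]
    rintro _ ⟨μ, hμ, rfl⟩
    refine Submodule.subset_span ⟨x ::ₘ μ, ⟨fun y hy => ?_, ?_⟩, act_cons _ _ _ _⟩
    · rcases Multiset.mem_cons.1 hy with rfl | hy
      · exact ⟨h1, h2⟩
      · exact hμ.1 y hy
    · rw [Multiset.map_cons, Multiset.sum_cons, hμ.2]
  exact this ⟨F, hF, rfl⟩

theorem Mo_mem_sup {p : ℕ} {κ : Fin N → ℕ} {w : ℕ} {x : ℕ × ℕ} (h1 : 1 ≤ x.1) (h2 : x.2 < p)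
    {F : Fn N} (hA : F ∈ Anti N) (hF : F ∈ TT p κ w ⊔ SS N p) :
    Mo p x F ∈ TT p κ (x.1 + w) ⊔ SS N p := by
  have key : ∀ x : ℕ × ℕ, 1 ≤ x.1 → x.2 ∈ Ico 1 p → Mo p x F ∈ TT p κ (x.1 + w) ⊔ SS N p := by
    intro x h1 h2
    obtain ⟨a, ha, b, hb, rfl⟩ := Submodule.mem_sup.1 hF
    rw [map_add]
    exact Submodule.add_mem_sup (Mo_mem_TT h1 h2 ha) (Mo_mem_SS p x hb)
  obtain ⟨r, i⟩ := x
  rcases Nat.eq_zero_or_pos i with rfl | hi
  · have h3 := U_eq_sum (N := N) h2 (p * r) F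
    rw [range_eq_Ico, sum_eq_sum_Ico_succ_bot h2] at h3
    have h4 : Mo p (r, 0) F = U (p * r) F - ∑ i ∈ Ico 1 p, Mo p (r, i) F := by
      rw [h3]; simp [Mo]
    rw [h4]
    refine sub_mem (Submodule.mem_sup_right ?_) (sum_mem fun i hi => key (r, i) h1 hi)
    refine Submodule.mem_iSup_of_mem (r - 1) ⟨F, hA, ?_⟩
    rw [Nat.sub_add_cancel h1]
  · exact key _ h1 (mem_Ico.2 ⟨hi, h2⟩)

theorem smul_alt_eq {p : ℕ} (hp : 0 < p) {γ : Fin N → ℕ} (hγ : Injective γ) :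
    (wt p γ : ℂ) • alt γ = ∑ r ∈ Icc 1 (∑ j, γ j), ∑ i ∈ range p,
      Mo p (r, i) (dn (p * r) (fun b => b % p = i) (alt γ)) := by
  classical
  funext δ
  have h1 := L0 hp (alt_mem γ) δ (R := ∑ j, γ j + ∑ j, δ j) fun j =>
    le_add_left (single_le_sum (fun _ _ => Nat.zero_le _) (mem_univ j))
  rw [← sum_subset (Icc_subset_Icc_right (Nat.le_add_right _ _))] at h1
  · rw [Pi.smul_apply, smul_eq_mul]
    refine Eq.trans ?_ h1.symm
    by_cases h : alt γ δ = 0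
    · rw [h, mul_zero, mul_zero]
    · obtain ⟨σ, rfl⟩ := exists_of_alt_ne h
      rw [wt_comp hp hγ]
  · intro r hr hr'
    refine sum_eq_zero fun i _ => ?_
    rw [dn_alt, sum_eq_zero, map_zero]
    intro j _
    rw [if_neg]
    rintro ⟨h2, -⟩
    have h3 : γ j ≤ ∑ j, γ j := single_le_sum (fun _ _ => Nat.zero_le _) (mem_univ j)
    have h4 : r ≤ p * r := Nat.le_mul_of_pos_left _ hp
    simp only [mem_Icc] at hr hr'
    omega

theorem alt_mem_sup {p : ℕ} (hp : 0 < p) {κ : Fin N → ℕ} (hκ : Injective κ) (h0 : wt p κ = 0)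
    (w : ℕ) : ∀ γ : Fin N → ℕ, Injective γ → resM p γ = resM p κ → wt p γ = w →
      alt γ ∈ TT p κ w ⊔ SS N p := by
  classical
  induction w using Nat.strong_induction_on with
  | _ w ih =>
  intro γ hγ hr hw
  rcases Nat.eq_zero_or_pos w with rfl | hw0
  · obtain ⟨σ, rfl⟩ := exists_perm_of_wt_zero hp hγ hκ hr hw h0
    rw [alt_comp]
    exact Submodule.mem_sup_left (Submodule.smul_mem _ _
      (Submodule.subset_span ⟨0, ⟨by simp, by simp⟩, rfl⟩))
  rw [← Submodule.smul_mem_iff _ (Nat.cast_ne_zero.2 hw0.ne' : (w : ℂ) ≠ 0), ← hw,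
    smul_alt_eq hp hγ]
  refine sum_mem fun r hr' => sum_mem fun i hi => ?_
  rw [dn_alt, map_sum]
  refine sum_mem fun j _ => ?_
  split_ifs with h1
  · by_cases h2 : Injective (update γ j (γ j - p * r))
    · have h3 := wt_update_sub hp hγ h1.1 h2
      rw [← h3, add_comm]
      refine Mo_mem_sup (x := (r, i)) (mem_Icc.1 hr').1 (mem_range.1 hi) (alt_mem _)
        (ih _ ?_ _ h2 ?_ rfl)
      · have := (mem_Icc.1 hr').1
        omega
      · rw [resM_update γ j (sub_mul_mod h1.1), hr]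
    · rw [alt_eq_zero h2, map_zero]; exact zero_mem _
  · rw [map_zero]; exact zero_mem _

/-- The regular part as a linear map. -/
noncomputable def regL (p : ℕ) (G : Type*) [Group G] : (G → ℂ) →ₗ[ℂ] (G → ℂ) where
  toFun := pRegularPart p
  map_add' F G := by
    funext π
    simp only [pRegularPart, Pi.add_apply]
    split_ifs <;> simp
  map_smul' c F := by
    funext π
    simp only [pRegularPart, Pi.smul_apply]
    split_ifs <;> simp

variable {α : Type*} [Fintype α] [DecidableEq α]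

theorem regL_cf_SS (hN : Fintype.card α ≤ N) {p : ℕ} (hp : p.Prime) {F : Fn N}
    (hF : F ∈ SS N p) : regL p _ (cf α F) = 0 := by
  refine Submodule.iSup_induction _ (motive := fun F => regL p _ (cf α F) = 0) hF ?_ (by simp) ?_
  · rintro r _ ⟨G, hG, rfl⟩
    funext π
    change pRegularPart p _ π = 0
    rw [pRegularPart]
    split_ifs with h
    · exact cf_U hN hG (Nat.mul_pos hp.pos r.succ_pos)
        fun h' => h ((prime_dvd_orderOf_iff hp π).2 ⟨_, h', dvd_mul_right _ _⟩)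
    · rfl
  · intro F G hF hG
    rw [map_add, map_add, hF, hG, add_zero]

theorem blockRank_le (hN : Fintype.card α ≤ N) {p : ℕ} [hp : Fact p.Prime] {M : Ideal AlgInt}
    (hM : IsPModular p M) {B : Set (IrrCharacter (Perm α))} (hB : IsPBlock M B)
    {χ : IrrCharacter (Perm α)} (hχ : χ ∈ B) {β : Fin N → ℕ} (h : Lab β χ)
    {t : Finset (Multiset (ℕ × ℕ))} (ht : Ix p (wt p β) ⊆ t) : blockRank p B ≤ #t := by
  classical
  have hp0 := hp.out.pos
  let g : Multiset (ℕ × ℕ) → Perm α → ℂ := fun μ => regL p _ (cf α (act p μ (alt (core p β))))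
  refine le_trans ?_ ((finrank_span_finset_le_card (R := ℂ) (t.image g)).trans card_image_le)
  refine Submodule.finrank_mono (Submodule.span_le.2 ?_)
  rintro _ ⟨ψ, hψ, rfl⟩
  obtain ⟨γ, hγ⟩ := exists_lab_of_irr hN ψ
  have h1 := hγ.resM_eq hN hM hB hψ hχ h
  have h2 : wt p γ = wt p β := by
    have := sum_add_wt hp0 hγ.1 h.1 h1
    rw [hγ.2.1, h.2.1] at this
    exact (Nat.eq_of_mul_eq_mul_left hp0 (Nat.add_left_cancel this)).symm
  obtain ⟨a, ha, b, hb, e⟩ := Submodule.mem_sup.1 (alt_mem_sup hp0 (injective_core hp0 h.1)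
    (wt_core hp0 h.1) _ γ hγ.1 (h1.trans (resM_core _ _).symm) h2)
  obtain ⟨ε, -, hε⟩ := hγ.exists_eq
  have h3 : (ψ : Perm α → ℂ) = (ε * (N.factorial : ℂ)⁻¹) • cf α (alt γ) := by
    funext π
    rw [hε, Pi.smul_apply, cf_alt hγ.2.1, smul_eq_mul, mul_assoc, inv_mul_cancel_left₀]
    exact_mod_cast N.factorial_ne_zero
  change regL p _ (ψ : Perm α → ℂ) ∈ _
  rw [h3, map_smul, ← e, map_add, map_add, regL_cf_SS hN hp.out hb, add_zero]
  refine Submodule.smul_mem _ _ ?_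
  have h4 : (TT p (core p β) (wt p β)).map ((regL p _).comp (cf α)) ≤
      Submodule.span ℂ (t.image g : Set (Perm α → ℂ)) := by
    rw [TT, Submodule.map_span_le]
    rintro _ ⟨μ, hμ, rfl⟩
    exact Submodule.subset_span (by simpa using ⟨μ, ht hμ, rfl⟩)
  exact h4 ⟨a, ha, rfl⟩

/-! ### Counting -/

theorem mem_image_cons {p w : ℕ} {μ : Multiset (ℕ × ℕ)} (hμ : μ ∈ Ix p w) {x : ℕ × ℕ}
    (hx : x ∈ μ) {t : Finset (Multiset (ℕ × ℕ))} (ht : Ix p (w - x.1) ⊆ t) :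
    μ ∈ (Ico 1 p ×ˢ t).image fun y => (w - (y.2.map Prod.fst).sum, y.1) ::ₘ y.2 := by
  obtain ⟨ν, rfl⟩ := Multiset.exists_cons_of_mem hx
  have h1 := hμ.2
  rw [Multiset.map_cons, Multiset.sum_cons] at h1
  refine mem_image.2 ⟨(x.2, ν), mem_product.2 ⟨(hμ.1 x hx).2, ht ⟨fun y hy =>
    hμ.1 y (Multiset.mem_cons_of_mem hy), by simp only; omega⟩⟩, ?_⟩
  have : w - (ν.map Prod.fst).sum = x.1 := by omega
  simp only [this]

theorem exists_cover {p : ℕ} (hp : 0 < p) (w : ℕ) :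
    ∃ t : Finset (Multiset (ℕ × ℕ)), (∀ j ≤ w, Ix p j ⊆ t) ∧ #t ≤ p ^ w := by
  induction w with
  | zero =>
    refine ⟨{0}, fun j hj μ hμ => ?_, by simp⟩
    rcases μ.empty_or_exists_mem with rfl | ⟨x, hx⟩
    · simp
    · have h1 := Multiset.single_le_sum (fun _ _ => Nat.zero_le _) _
        (Multiset.mem_map_of_mem Prod.fst hx)
      have h2 := (hμ.1 x hx).1
      have h3 := hμ.2
      omega
  | succ w ih =>
    obtain ⟨t, h1, h2⟩ := ih
    refine ⟨t ∪ (Ico 1 p ×ˢ t).image fun y => (w + 1 - (y.2.map Prod.fst).sum, y.1) ::ₘ y.2,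
      fun j hj μ hμ => ?_, ?_⟩
    · rcases hj.lt_or_eq with hj | rfl
      · exact mem_union_left _ (h1 j (by omega) hμ)
      · rcases μ.empty_or_exists_mem with rfl | ⟨x, hx⟩
        · simpa using hμ.2
        · have h2 := (hμ.1 x hx).1
          exact mem_union_right _ (mem_image_cons hμ hx (h1 _ (by omega)))
    · refine (card_union_le _ _).trans ((Nat.add_le_add_left card_image_le _).trans ?_)
      rw [card_product, Nat.card_Ico, pow_succ]
      obtain ⟨s, rfl⟩ : ∃ s, p = s + 1 := ⟨p - 1, by omega⟩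
      simp only [Nat.add_sub_cancel]
      nlinarith

theorem exists_cover_lt {p : ℕ} (hp : 0 < p) {w : ℕ} (hw : 0 < w) :
    ∃ t : Finset (Multiset (ℕ × ℕ)), Ix p w ⊆ t ∧ #t < p ^ w := by
  obtain ⟨w, rfl⟩ : ∃ v, w = v + 1 := ⟨w - 1, by omega⟩
  obtain ⟨t, h1, h2⟩ := exists_cover hp w
  refine ⟨(Ico 1 p ×ˢ t).image fun y => (w + 1 - (y.2.map Prod.fst).sum, y.1) ::ₘ y.2,
    fun μ hμ => ?_, card_image_le.trans_lt ?_⟩
  · rcases μ.empty_or_exists_mem with rfl | ⟨x, hx⟩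
    · simpa using hμ.2
    · have h2 := (hμ.1 x hx).1
      exact mem_image_cons hμ hx (h1 _ (by omega))
  · rw [card_product, Nat.card_Ico, pow_succ]
    obtain ⟨s, rfl⟩ : ∃ s, p = s + 1 := ⟨p - 1, by omega⟩
    have := pow_pos hp w
    simp only [Nat.add_sub_cancel]
    nlinarith

theorem two_mul_choose_lt {s : ℕ} (hs : 0 < s) (w : ℕ) :
    2 * (s + (w + 3) - 1).choose (w + 3) < (s + 1) ^ (w + 1) * (s ^ 2 + 1) := by
  induction w with
  | zero =>
    have h1 := Nat.descFactorial_eq_factorial_mul_choose (s + 2) 3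
    simp only [Nat.descFactorial_succ, Nat.descFactorial_zero, Nat.factorial] at h1
    simp only [Nat.add_sub_cancel, Nat.sub_zero, show s + 2 - 1 = s + 1 from rfl] at h1
    rw [show s + (0 + 3) - 1 = s + 2 from rfl, zero_add, zero_add, pow_one]
    norm_num at h1
    nlinarith [Nat.mul_pos hs hs, Nat.mul_pos hs (Nat.mul_pos hs hs)]
  | succ w ih =>
    have h1 := Nat.add_one_mul_choose_eq (s + (w + 3) - 1) (w + 3)
    rw [show s + (w + 3) - 1 + 1 = s + (w + 1 + 3) - 1 by omega] at h1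
    have h2 : (s + (w + 1 + 3) - 1).choose (w + 1 + 3) ≤
        (s + 1) * (s + (w + 3) - 1).choose (w + 3) := by
      refine Nat.le_of_mul_le_mul_right ?_ (show 0 < w + 3 + 1 by omega)
      rw [show w + 1 + 3 = w + 3 + 1 by omega] at h1 ⊢
      rw [← h1, mul_right_comm]
      refine Nat.mul_le_mul_right _ ?_
      rw [show s + (w + 3 + 1) - 1 = s + w + 3 by omega]
      nlinarith
    rw [pow_succ]
    nlinarith

theorem exists_cover_two_mul_lt {p : ℕ} (hp : 2 ≤ p) {w : ℕ} (hw : 3 ≤ w) :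
    ∃ t : Finset (Multiset (ℕ × ℕ)), Ix p w ⊆ t ∧ 2 * #t < p ^ w := by
  obtain ⟨w, rfl⟩ : ∃ v, w = v + 3 := ⟨w - 3, by omega⟩
  obtain ⟨s, rfl⟩ : ∃ s, p = s + 1 := ⟨p - 1, by omega⟩
  obtain ⟨t, h1, h2⟩ := exists_cover s.succ_pos (w + 1)
  refine ⟨((Ico 1 (s + 1) ×ˢ t).image fun y => (w + 3 - (y.2.map Prod.fst).sum, y.1) ::ₘ y.2) ∪
    univ.image fun ν : Sym (Ico 1 (s + 1)) (w + 3) => ν.1.map fun i => (1, i.1),
    fun μ hμ => ?_, ?_⟩
  · by_cases h : ∃ x ∈ μ, 2 ≤ x.1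
    · obtain ⟨x, hx, h3⟩ := h
      exact mem_union_left _ (mem_image_cons hμ hx (h1 _ (by omega)))
    · push Not at h
      have h3 : ∀ x ∈ μ, x.1 = 1 := fun x hx => by
        have := (hμ.1 x hx).1
        have := h x hx
        omega
      refine mem_union_right _ (mem_image.2 ⟨⟨μ.attach.map fun x => ⟨x.1.2, (hμ.1 x.1 x.2).2⟩, ?_⟩,
        mem_univ _, ?_⟩)
      · rw [Multiset.card_map, Multiset.card_attach, ← hμ.2,
          Multiset.map_congr rfl h3]
        simp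
      · simp only [Multiset.map_map, comp_apply]
        rw [Multiset.map_congr rfl fun x _ => show (1, x.1.2) = x.1 from
          Prod.ext (h3 x.1 x.2).symm rfl]
        simp
  · have h3 := two_mul_choose_lt (s := s) (by omega) w
    have h4 : #(univ : Finset (Sym (Ico 1 (s + 1)) (w + 3))) = (s + (w + 3) - 1).choose (w + 3) := by
      rw [card_univ, Sym.card_sym_eq_choose]
      simp
    refine lt_of_le_of_lt (Nat.mul_le_mul_left _ ((card_union_le _ _).trans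
      (Nat.add_le_add card_image_le card_image_le))) ?_
    rw [card_product, Nat.card_Ico, h4, Nat.add_sub_cancel,
      show w + 3 = w + 1 + 2 from rfl, pow_add]
    rw [show w + 3 = w + 1 + 2 from rfl] at h3
    nlinarith

end Cfsg.Agent.SymCh
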