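import Cfsg.Agent.Sym.Van
import Cfsg.Agent.Sym.Span
import Cfsg.Agent.Block.IBrBlock
import Cfsg.Agent.Block.CoverMore

/-!
# `l(b)` for blocks of a subgroup of index two
-/

namespace Cfsg.Agent.SymCh

open Finset Function Cfsg Cfsg.Agent.Char Cfsg.Agent.Block Module Submodule

theorem card_le_two_mul_finrank {V ι : Type*} [AddCommGroup V] [Module ℂ V] [Fintype ι]
    {v : ι → V} (hv : LinearIndependent ℂ v) (T : V →ₗ[ℂ] V) (a : ι → ι → ℕ)
    (h1 : ∀ i, T (v i) = ∑ j, (a i j : ℂ) • v j) (h2 : ∀ i, T (T (v i)) = v i) :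
    Fintype.card ι ≤ 2 * finrank ℂ (span ℂ (Set.range fun i => v i + T (v i))) := by
  classical
  let A : Matrix ι ι ℂ := Matrix.of fun i j => (a i j : ℂ)
  have hinj := hv.fintypeLinearCombination_injective
  have h3 : A * A = 1 := by
    ext i k
    refine congrFun (hinj (a₁ := (A * A) i) (a₂ := (1 : Matrix ι ι ℂ) i) ?_) k
    have := h2 i
    rw [h1, map_sum] at this
    simp only [map_smul, h1, smul_sum, smul_smul] at this
    rw [sum_comm] at this
    simp only [Fintype.linearCombination_apply, Matrix.mul_apply, sum_smul, Matrix.one_apply,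
      ite_smul, one_smul, zero_smul, sum_ite_eq, mem_univ, if_true]
    exact this
  have h4 : IsIdempotentElem ((2 : ℂ)⁻¹ • (1 + A)) := by
    rw [IsIdempotentElem, smul_mul_smul_comm, add_mul, mul_add, mul_add, h3]
    simp only [one_mul, mul_one]
    rw [add_comm A 1, ← two_smul ℂ, smul_smul]
    norm_num
  have h5 := trace_eq_rank_of_idem h4
  rw [Matrix.trace_smul, Matrix.trace_add, Matrix.trace_one] at h5
  have h6 : Fintype.card ι + ∑ i, a i i = 2 * Matrix.rank ((2 : ℂ)⁻¹ • (1 + A)) := by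
    apply Nat.cast_injective (R := ℂ)
    push_cast
    rw [← h5]
    simp [Matrix.trace, A]
  have h7 : Matrix.rank ((2 : ℂ)⁻¹ • (1 + A)) ≤
      finrank ℂ (span ℂ (Set.range fun i => v i + T (v i))) := by
    rw [Matrix.rank_eq_finrank_span_row,
      (Submodule.equivMapOfInjective _ hinj _).finrank_eq]
    have := FiniteDimensional.span_of_finite ℂ (Set.finite_range fun i => v i + T (v i))
    refine Submodule.finrank_mono (map_span_le _ _ _ |>.2 ?_)
    rintro _ ⟨i, rfl⟩
    have : Fintype.linearCombination ℂ v (((2 : ℂ)⁻¹ • (1 + A)).row i) =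
        (2 : ℂ)⁻¹ • (v i + T (v i)) := by
      simp [Fintype.linearCombination_apply, Matrix.row, Matrix.one_apply, add_smul,
        sum_add_distrib, h1, A, smul_sum, smul_smul]
    rw [this]
    exact smul_mem _ _ (subset_span ⟨i, rfl⟩)
  omega

variable {G : Type*} [Group G] [Fintype G] {N : Subgroup G} [hN : N.Normal] [Fintype N]
  {p : ℕ} [hp : Fact p.Prime] {M : Ideal AlgInt} {B : Set (IrrCharacter G)}
  {b : Set (IrrCharacter N)}

omit [Fintype G] [Fintype N] hN hp in
theorem finrank_span_res_le [Finite G] (B : Set (IrrCharacter G)) :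
    finrank ℂ (span ℂ ((fun χ : IrrCharacter G =>
      pRegularPart p fun n : N => (χ : G → ℂ) n) '' B)) ≤ blockRank p B := by
  have := FiniteDimensional.span_of_finite ℂ
    ((Set.toFinite B).image fun χ : IrrCharacter G => pRegularPart p (χ : G → ℂ))
  refine le_trans (le_of_eq ?_) (Submodule.finrank_map_le (LinearMap.funLeft ℂ ℂ N.subtype) _)
  have : (fun χ : IrrCharacter G => pRegularPart p fun n : N => (χ : G → ℂ) n) =
      fun χ : IrrCharacter G => LinearMap.funLeft ℂ ℂ N.subtype (pRegularPart p (χ : G → ℂ)) := by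
    funext χ n
    by_cases h : p ∣ orderOf n <;> simp [pRegularPart, IsPRegular, h]
  rw [map_span, Set.image_image, this]

omit hp in
theorem blockRank_le_of_nonsplit (hM : IsPModular p M) (hB : IsPBlock M B) (hb : IsPBlock M b)
    (hc : Covers N B b) (h2 : N.index = 2) (h : ∀ χ ∈ B, ∃ x, x ∉ N ∧ (χ : G → ℂ) x ≠ 0) :
    blockRank p b ≤ blockRank p B := by
  have := FiniteDimensional.span_of_finite ℂ ((Set.toFinite B).image
    fun χ : IrrCharacter G => pRegularPart p fun n : N => (χ : G → ℂ) n)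
  refine le_trans (Submodule.finrank_mono (span_mono ?_)) (finrank_span_res_le (N := N) B)
  rintro _ ⟨θ, hθ, rfl⟩
  obtain ⟨χ, hχ, h1⟩ := hc.exists_over hM hB hb hθ
  obtain ⟨x, hx, h3⟩ := h χ hχ
  exact ⟨χ, hχ, by
    simp only [(isIrr_restrict_of_ne_zero h2 χ.2 hx h3).eq_of_inner_ne_zero θ.2 h1]⟩

omit hp in
theorem blockRank_le_two_mul (hM : IsPModular p M) (hB : IsPBlock M B) (hb : IsPBlock M b)
    (hc : Covers N B b) (h2 : N.index = 2) : blockRank p b ≤ 2 * blockRank p B := by
  classical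
  obtain ⟨τ, hτ⟩ : ∃ τ, τ ∉ N := by
    by_contra h
    push Not at h
    rw [(Subgroup.eq_top_iff' N).2 h, Subgroup.index_top] at h2
    omega
  have hA := eSet_mem_intAlg_of_closed hM (orbitSet_closed hM hb)
  set A := orbitSet N b with hAdef
  let T : (N → ℂ) →ₗ[ℂ] (N → ℂ) := LinearMap.funLeft ℂ ℂ (MulAut.conjNormal τ : MulAut N)
  have hT : ∀ θ : N → ℂ, T (pRegularPart p θ) = pRegularPart p (conjChar N θ τ) := by
    intro θ
    funext n
    by_cases h : p ∣ orderOf n <;> simp [T, pRegularPart, IsPRegular, h, conjChar_eq_comp]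
  have h3 := span_regPart_eq hM hA
  have h4 : ∀ i : ibrOf M A, T (brauer i.1) ∈ span ℂ (Set.range fun i : ibrOf M A => brauer i.1) := by
    intro i
    have : (span ℂ (Set.range fun i : ibrOf M A => brauer i.1)).map T ≤
        span ℂ (Set.range fun i : ibrOf M A => brauer i.1) := by
      rw [← h3, map_span_le]
      rintro _ ⟨θ, hθ, rfl⟩
      exact subset_span ⟨conjIrr N θ τ, ((isStable_orbitSet b).mem_iff τ).2 hθ, (hT θ).symm⟩
    exact this ⟨_, subset_span ⟨i, rfl⟩, rfl⟩
  have h5 : ∀ i : ibrOf M A, ∃ a : ibrOf M A → ℕ,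
      T (brauer i.1) = ∑ j, (a j : ℂ) • brauer j.1 := by
    intro i
    obtain ⟨a, ha⟩ := brauer_comp hM (MulAut.conjNormal τ : MulAut N).toMonoidHom i.1
    obtain ⟨c, hc⟩ := (mem_span_range_iff_exists_fun ℂ).1 (h4 i)
    refine ⟨fun j => a j.1, ?_⟩
    have h6 := ext_of_sum_brauer hM (c := fun j => if h : j ∈ ibrOf M A then c ⟨j, h⟩ else 0)
      (c' := fun j => a j) fun g hg => by
        rw [← ha g hg, ← sum_subset (subset_univ (ibrOf M A)) fun j _ hj => by simp [hj],
          ← sum_coe_sort]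
        have := congrFun hc g
        simpa [Finset.sum_apply, T] using this
    rw [← hc]
    refine sum_congr rfl fun j _ => ?_
    rw [← congrFun h6 j.1, dif_pos j.2]
  choose a ha using h5
  have h6 := card_le_two_mul_finrank
    ((linearIndependent_brauer hM).comp (fun i : ibrOf M A => i.1) Subtype.val_injective) T a ha
    fun i => by
      change conjChar N (conjChar N (brauer i.1) τ) τ = brauer i.1
      rw [← conjChar_mul, conjChar_of_mem (isClassFunction_brauer _)
        (Subgroup.mul_self_mem_of_index_two h2 τ)]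
  have := FiniteDimensional.span_of_finite ℂ ((Set.toFinite B).image
    fun χ : IrrCharacter G => pRegularPart p fun n : N => (χ : G → ℂ) n)
  have := FiniteDimensional.span_of_finite ℂ ((Set.toFinite A).image
    fun χ : IrrCharacter N => pRegularPart p (χ : N → ℂ))
  have h7 : blockRank p b ≤ blockRank p A :=
    Submodule.finrank_mono (span_mono (Set.image_mono (subset_orbitSet b)))
  rw [blockRank_eq_card hM hA, ← Fintype.card_coe] at h7
  refine h7.trans (h6.trans (Nat.mul_le_mul_left _ (le_trans (Submodule.finrank_mono ?_)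
    (finrank_span_res_le (N := N) B))))
  have h8 : (span ℂ (Set.range fun i : ibrOf M A => brauer i.1)).map (LinearMap.id + T) ≤
      span ℂ ((fun χ : IrrCharacter G => pRegularPart p fun n : N => (χ : G → ℂ) n) '' B) := by
    rw [← h3, map_span_le]
    rintro _ ⟨_, ⟨g, θ, hθ, rfl⟩, rfl⟩
    obtain ⟨χ, hχ, h9⟩ := hc.exists_over hM hB hb hθ
    rw [← over_conjIrr_iff χ.2.isClassFunction θ g] at h9
    have h10 : pRegularPart p (fun n : N => (χ : G → ℂ) n) ∈
      span ℂ ((fun χ : IrrCharacter G => pRegularPart p fun n : N => (χ : G → ℂ) n) '' B) :=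
      subset_span ⟨χ, hχ, rfl⟩
    change pRegularPart p (conjIrr N θ g : N → ℂ) + T (pRegularPart p (conjIrr N θ g : N → ℂ)) ∈ _
    rw [hT]
    rcases restrict_cases h2 χ.2 (conjIrr N θ g).2 h9 with h11 | ⟨-, -, h11⟩
    · rw [← h11]
      refine add_mem h10 ?_
      convert h10 using 2
      funext n
      exact χ.2.isClassFunction _ _
    · rw [h11 τ hτ] at h10
      exact ((regL p N).map_add _ _).symm ▸ h10
  rw [span_le]
  rintro _ ⟨i, rfl⟩
  exact h8 ⟨_, subset_span ⟨i, rfl⟩, rfl⟩

end Cfsg.Agent.SymCh
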