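import Cfsg.Agent.Sym.Ht
import Cfsg.Agent.Sym.IdxTwo
import Cfsg.Agent.S4438

/-!
# Blocks of alternating groups: defect groups
-/

namespace Cfsg.Agent.SymCh

open Finset Function Equiv Cfsg Cfsg.Agent.Char Cfsg.Agent.Block Subgroup

theorem two_mul_card_inf {G : Type*} [Group G] {A P : Subgroup G} [A.Normal] (hA : A.index = 2)
    (h : ¬ P ≤ A) : 2 * Nat.card (P ⊓ A : Subgroup G) = Nat.card P := by
  have h1 : A.relIndex P = 2 := by
    rcases (Nat.dvd_prime Nat.prime_two).1 (hA ▸ relIndex_dvd_index_of_normal A P) with h2 | h2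
    · exact (h (relIndex_eq_one.1 h2)).elim
    · exact h2
  rw [← (A.subgroupOf P).card_mul_index, mul_comm,
    ← Nat.card_congr (subgroupOfEquivOfLe (inf_le_left : P ⊓ A ≤ P)).toEquiv, inf_subgroupOf_left]
  exact congrArg _ h1.symm

variable {N : ℕ} {α : Type*} [Fintype α] [DecidableEq α] {p : ℕ} [hp : Fact p.Prime]
  {M : Ideal AlgInt} {b : Set (IrrCharacter (alternatingGroup α))}
  {D : Subgroup (alternatingGroup α)} {B : Set (IrrCharacter (Perm α))} {P : Subgroup (Perm α)}
  {χ : IrrCharacter (Perm α)} {β : Fin N → ℕ}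

theorem exists_cover_data (hN : Fintype.card α ≤ N) (hM : IsPModular p M) (hb : IsPBlock M b)
    (hD : IsDefectGroup p M b D) :
    ∃ (B : Set (IrrCharacter (Perm α))) (P : Subgroup (Perm α)) (χ : IrrCharacter (Perm α))
      (β : Fin N → ℕ), IsPBlock M B ∧ Covers (alternatingGroup α) B b ∧ IsDefectGroup p M B P ∧
      P ⊓ alternatingGroup α = D.map (alternatingGroup α).subtype ∧ χ ∈ B ∧ Lab β χ := by
  obtain ⟨B, hB, hc⟩ := exists_covers hM hb
  obtain ⟨P, hP, h⟩ := S4438.result p M hM _ b hb (D.map (alternatingGroup α).subtype)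
    (map_subtype_le D) (by rwa [subgroupOf, comap_map_eq_self_of_injective (subtype_injective _)])
    B hB hc
  obtain ⟨χ, hχ⟩ := block_nonempty hM hB
  obtain ⟨β, hβ⟩ := exists_lab_of_irr hN χ
  exact ⟨B, P, χ, β, hB, hc, hP, h, hχ, hβ⟩

omit hp in
theorem card_eq_card_inf (h : P ⊓ alternatingGroup α = D.map (alternatingGroup α).subtype) :
    Nat.card D = Nat.card (P ⊓ alternatingGroup α : Subgroup (Perm α)) := by
  rw [h, card_map_of_injective (subtype_injective _)]

theorem sign_eq_one_of_pow (hp2 : p ≠ 2) {σ : Perm α} {k : ℕ} (h : σ ^ p ^ k = 1) :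
    Perm.sign σ = 1 := by
  have h1 := congrArg Perm.sign h
  rw [map_pow, map_one] at h1
  rcases Int.units_eq_one_or (Perm.sign σ) with h2 | h2
  · exact h2
  · rw [h2, ((hp.out.odd_of_ne_two hp2).pow).neg_one_pow] at h1
    exact absurd h1 (by decide)

theorem le_alt_of_odd (hp2 : p ≠ 2) (hP : IsPGroup p P) : P ≤ alternatingGroup α := fun σ hσ => by
  obtain ⟨k, hk⟩ := hP ⟨σ, hσ⟩
  exact sign_eq_one_of_pow hp2 (congrArg Subtype.val hk)

theorem Lab.not_le_alt {M : Ideal AlgInt} (h : Lab β χ) (hM : IsPModular 2 M) (hB : IsPBlock M B)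
    (hP : IsDefectGroup 2 M B P) (hχ : χ ∈ B) (hw : 0 < wt 2 β) : ¬ P ≤ alternatingGroup α := by
  obtain ⟨e, he⟩ := h.exists_embedding hM hB hP hχ (γ := Fin 2) (by simp; omega)
    (IsPGroup.of_card (n := 1) (by simp [Fintype.card_perm])) (MonoidHom.id _)
  intro hle
  have := hle (he (swap 0 1))
  rw [Perm.mem_alternatingGroup, sign_viaEmbedding] at this
  exact absurd this (by decide)

omit hp in
theorem exists_hom_of_sign (h : P ⊓ alternatingGroup α = D.map (alternatingGroup α).subtype)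
    {K : Type*} [Group K] (f : K →* Perm α) (h1 : ∀ k, f k ∈ P) (h2 : ∀ k, Perm.sign (f k) = 1) :
    ∃ g : K →* D, ∀ k, ((g k : alternatingGroup α) : Perm α) = f k :=
  ⟨(f.codRestrict (alternatingGroup α) h2).codRestrict D fun k => by
    rw [← mem_map_iff_mem (subtype_injective _), ← h]
    exact ⟨h1 k, h2 k⟩, fun _ => rfl⟩

theorem Lab.card_le_of_sec (h : Lab β χ) (hM : IsPModular p M) (hB : IsPBlock M B)
    (hP : IsDefectGroup p M B P) (hχ : χ ∈ B)
    (hD : P ⊓ alternatingGroup α = D.map (alternatingGroup α).subtype) {s : ℕ}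
    (hs : SectionalPRankLE p s D) {K : Type*} [CommGroup K] [Fintype K] [DecidableEq K] (v : ℕ)
    (hv : v * Fintype.card K ≤ p * wt p β) (hK : ∀ k : K, k ^ p = 1)
    (hK' : ∀ k : K, Perm.sign (Equiv.mulLeft k) = 1) : Fintype.card K ^ v ≤ p ^ s := by
  have h1 : ∀ u : Fin v → K, u ^ p = 1 := fun u => funext fun i => hK _
  obtain ⟨e, he⟩ := h.exists_embedding hM hB hP hχ (by simpa using hv)
    (fun u => ⟨1, by rw [pow_one, h1]⟩) (prodReg (Fin v) K)
  obtain ⟨g, hg⟩ := exists_hom_of_sign hD ((Perm.viaEmbeddingHom e).comp (prodReg _ _)) he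
    fun u => by
      rw [MonoidHom.comp_apply, Perm.viaEmbeddingHom_apply, sign_viaEmbedding]
      exact (Perm.sign_prodCongrRight _).trans (prod_eq_one fun i _ => hK' _)
  have := SymCh.card_le_of_sec hs g (fun a b hab => prodReg_injective _ _
    (Perm.viaEmbeddingHom_injective e (by
      have := (hg a).symm.trans (hab ▸ hg b)
      exact this))) mul_comm h1
  simpa using this

theorem Lab.exists_odd (h : Lab β χ) (hw : Odd (wt 2 β)) :
    ∃ x, x ∉ alternatingGroup α ∧ (χ : Perm α → ℂ) x ≠ 0 := by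
  have h1 := mul_wt_le_of_sum two_pos h.1 h.2.1
  obtain ⟨x, hx⟩ := exists_parts_eq α (ρ := Multiset.replicate (wt 2 β) 2 +
      Multiset.replicate (Fintype.card α - 2 * wt 2 β) 1) (fun r hr => by
    simp only [Multiset.mem_add, Multiset.mem_replicate] at hr
    omega) (by simp [mul_comm (wt 2 β), h1])
  refine ⟨x, ?_, ?_⟩
  · rw [mem_alt_iff_parts, hx, Nat.even_iff]
    rw [Nat.odd_iff] at hw
    simp only [Multiset.card_add, Multiset.card_replicate]
    omega
  · rw [Ne, h.eq_zero_iff, chi, hx]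
    exact st_replicate_replicate_ne_zero two_pos h.1 (by rw [h.2.1]; omega)

theorem factorization_mul_factorial_of_lt {w : ℕ} (hw : w < p) :
    (p * w).factorial.factorization p = w := by
  rw [Nat.factorization_factorial_mul hp.out, Nat.factorization_factorial_eq_zero_of_lt hw,
    zero_add]

end Cfsg.Agent.SymCh
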