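import Mathlib.GroupTheory.Perm.Centralizer
import Mathlib.Data.Complex.Basic
import Mathlib.Tactic

/-!
# Cycle types with fixed points, averages over symmetric groups
-/

namespace Cfsg.Agent.SymCh

open Finset Function Equiv

variable {α : Type*} [Fintype α] [DecidableEq α]

/-- The cycle lengths of a permutation, fixed points included. -/
def parts (π : Perm α) : Multiset ℕ := π.partition.parts

theorem parts_eq (π : Perm α) :
    parts π = π.cycleType + Multiset.replicate (Fintype.card α - #π.support) 1 := rfl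

theorem parts_pos {π : Perm α} {r : ℕ} (h : r ∈ parts π) : 0 < r := π.partition.parts_pos h

theorem sum_parts (π : Perm α) : (parts π).sum = Fintype.card α := π.partition.parts_sum

theorem isConj_iff_parts {π τ : Perm α} : IsConj π τ ↔ parts π = parts τ := by
  rw [Perm.partition_eq_of_isConj, Nat.Partition.ext_iff]; rfl

theorem filter_parts (π : Perm α) : (parts π).filter (2 ≤ ·) = π.cycleType :=
  Perm.filter_parts_partition_eq_cycleType

theorem eq_filter_add {ρ : Multiset ℕ} (h : ∀ r ∈ ρ, 0 < r) :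
    ρ = ρ.filter (2 ≤ ·) + Multiset.replicate (ρ.count 1) 1 := by
  ext r
  rw [Multiset.count_add, Multiset.count_filter, Multiset.count_replicate]
  by_cases h1 : r = 1
  · subst h1; simp
  · rw [if_neg (Ne.symm h1), add_zero]
    split_ifs with h2
    · rfl
    · rw [Multiset.count_eq_zero]
      intro h3
      have := h r h3
      omega

theorem parts_eq_iff {π : Perm α} {ρ : Multiset ℕ} (h : ∀ r ∈ ρ, 0 < r)
    (hs : ρ.sum = Fintype.card α) : parts π = ρ ↔ π.cycleType = ρ.filter (2 ≤ ·) := by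
  refine ⟨fun e => by rw [← e, filter_parts], fun e => ?_⟩
  have h1 := congrArg Multiset.sum (eq_filter_add h)
  rw [Multiset.sum_add, Multiset.sum_replicate, smul_eq_mul, mul_one, ← e, Perm.sum_cycleType,
    hs] at h1
  rw [parts_eq, e, show Fintype.card α - #π.support = ρ.count 1 by omega]
  exact (eq_filter_add h).symm

theorem parts_one : parts (1 : Perm α) = Multiset.replicate (Fintype.card α) 1 := by
  simp [parts_eq]

theorem prime_dvd_orderOf_iff {p : ℕ} (hp : p.Prime) (π : Perm α) :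
    p ∣ orderOf π ↔ ∃ r ∈ parts π, p ∣ r := by
  constructor
  · intro h
    rw [← Perm.lcm_cycleType] at h
    have : ∀ s : Multiset ℕ, p ∣ s.lcm → ∃ r ∈ s, p ∣ r := by
      intro s
      induction s using Multiset.induction_on with
      | empty => intro h; simp [hp.one_lt.ne'] at h
      | cons a s ih =>
        intro h
        rw [Multiset.lcm_cons] at h
        rcases (hp.dvd_mul.1 (h.trans (Nat.lcm_dvd_mul _ _))) with h | h
        · exact ⟨a, by simp, h⟩
        · obtain ⟨r, hr, e⟩ := ih h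
          exact ⟨r, by simp [hr], e⟩
    obtain ⟨r, hr, e⟩ := this _ h
    exact ⟨r, by rw [parts_eq]; simp [hr], e⟩
  · rintro ⟨r, hr, e⟩
    rw [parts_eq, Multiset.mem_add] at hr
    rcases hr with hr | hr
    · exact e.trans (Perm.dvd_of_mem_cycleType hr)
    · rw [Multiset.eq_of_mem_replicate hr] at e
      exact (hp.one_lt.ne' (Nat.dvd_one.1 e)).elim

theorem orderOf_dvd_of_parts {π : Perm α} {m : ℕ} (h : ∀ r ∈ parts π, r ∣ m) : orderOf π ∣ m := by
  rw [← Perm.lcm_cycleType, Multiset.lcm_dvd]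
  intro r hr
  exact h r (by rw [parts_eq]; simp [hr])

theorem dvd_orderOf_of_mem_parts {π : Perm α} {r : ℕ} (hr : r ∈ parts π) : r ∣ orderOf π := by
  rw [parts_eq, Multiset.mem_add] at hr
  rcases hr with hr | hr
  · exact Perm.dvd_of_mem_cycleType hr
  · rw [Multiset.eq_of_mem_replicate hr]; exact one_dvd _

theorem sign_eq_parts (π : Perm α) :
    Perm.sign π = (-1 : ℤˣ) ^ (Fintype.card α + Multiset.card (parts π)) := by
  have h := π.support.card_le_univ
  rw [Perm.sign_of_cycleType, parts_eq, Multiset.card_add, Multiset.card_replicate,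
    Perm.sum_cycleType]
  rw [show Fintype.card α + (Multiset.card π.cycleType + (Fintype.card α - #π.support)) =
    #π.support + Multiset.card π.cycleType + 2 * (Fintype.card α - #π.support) by omega, pow_add _ _ (2 * _),
    pow_mul]
  simp

/-- The order of the centralizer of a permutation with the given cycle lengths. -/
def zz (ρ : Multiset ℕ) : ℕ := ρ.prod * ∏ r ∈ ρ.toFinset, (ρ.count r).factorial

theorem zz_cons (r : ℕ) (ρ : Multiset ℕ) : zz (r ::ₘ ρ) = r * (ρ.count r + 1) * zz ρ := by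
  have h : ∏ s ∈ (r ::ₘ ρ).toFinset, ((r ::ₘ ρ).count s).factorial =
      (ρ.count r + 1) * ∏ s ∈ ρ.toFinset, (ρ.count s).factorial := by
    have h1 : ∏ s ∈ ρ.toFinset, (ρ.count s).factorial =
        ∏ s ∈ insert r ρ.toFinset, (ρ.count s).factorial := by
      refine prod_subset (subset_insert _ _) fun s _ hs => ?_
      rw [Multiset.count_eq_zero.2 (by simpa using hs)]; rfl
    rw [h1, Multiset.toFinset_cons, ← mul_prod_erase _ _ (mem_insert_self r _),
      ← mul_prod_erase _ _ (mem_insert_self r _), Multiset.count_cons_self, Nat.factorial_succ,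
      mul_assoc]
    congr 2
    exact prod_congr rfl fun s hs => by rw [Multiset.count_cons_of_ne (ne_of_mem_erase hs)]
  rw [zz, zz, h, Multiset.prod_cons]
  ring

theorem zz_ne_zero {ρ : Multiset ℕ} (h : ∀ r ∈ ρ, 0 < r) : zz ρ ≠ 0 :=
  mul_ne_zero (Multiset.prod_ne_zero fun h0 => lt_irrefl _ (h 0 h0))
    (prod_ne_zero_iff.2 fun _ _ => Nat.factorial_ne_zero _)

theorem zz_add_replicate {m : Multiset ℕ} (h : m.count 1 = 0) (k : ℕ) :
    zz (m + Multiset.replicate k 1) = k.factorial * zz m := by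
  induction k with
  | zero => simp
  | succ k ih =>
    rw [Multiset.replicate_succ, Multiset.add_cons, zz_cons, ih, Multiset.count_add, h,
      Multiset.count_replicate_self, Nat.factorial_succ]
    ring

theorem card_parts_mul {ρ : Multiset ℕ} (h : ∀ r ∈ ρ, 0 < r) (hs : ρ.sum = Fintype.card α) :
    #{π : Perm α | parts π = ρ} * zz ρ = (Fintype.card α).factorial := by
  have h1 := congrArg Multiset.sum (eq_filter_add h)
  rw [Multiset.sum_add, Multiset.sum_replicate, smul_eq_mul, mul_one, hs] at h1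
  have h2 := Perm.card_of_cycleType_mul_eq α (ρ.filter (2 ≤ ·))
  rw [if_pos ⟨by omega, fun a ha => (Multiset.mem_filter.1 ha).2⟩,
    show Fintype.card α - (ρ.filter (2 ≤ ·)).sum = ρ.count 1 by omega, mul_assoc] at h2
  simp only [parts_eq_iff h hs]
  rw [← h2]
  congr 1
  conv_lhs => rw [eq_filter_add h]
  rw [zz_add_replicate (by simp), zz]

theorem exists_parts_eq (α : Type*) [Fintype α] [DecidableEq α] {ρ : Multiset ℕ}
    (h : ∀ r ∈ ρ, 0 < r) (hs : ρ.sum = Fintype.card α) : ∃ π : Perm α, parts π = ρ := by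
  have h1 := card_parts_mul h hs
  have h2 : #{π : Perm α | parts π = ρ} ≠ 0 := by
    intro e
    rw [e, zero_mul] at h1
    exact Nat.factorial_ne_zero _ h1.symm
  obtain ⟨π, hπ⟩ := card_ne_zero.1 h2
  exact ⟨π, (mem_filter.1 hπ).2⟩

/-- Partitions as multisets. -/
def Pt (n : ℕ) : Finset (Multiset ℕ) := univ.image fun μ : n.Partition => μ.parts

theorem mem_Pt {n : ℕ} {ρ : Multiset ℕ} : ρ ∈ Pt n ↔ (∀ r ∈ ρ, 0 < r) ∧ ρ.sum = n := by
  simp only [Pt, mem_image, mem_univ, true_and]
  constructor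
  · rintro ⟨μ, rfl⟩
    exact ⟨fun r hr => μ.parts_pos hr, μ.parts_sum⟩
  · rintro ⟨h1, h2⟩
    exact ⟨⟨ρ, fun hr => h1 _ hr, h2⟩, rfl⟩

theorem parts_mem_Pt (π : Perm α) : parts π ∈ Pt (Fintype.card α) :=
  mem_Pt.2 ⟨fun _ => parts_pos, sum_parts π⟩

/-- Average of a function of the cycle lengths. -/
noncomputable def avg (n : ℕ) (F : Multiset ℕ → ℂ) : ℂ := ∑ ρ ∈ Pt n, F ρ / zz ρ

theorem sum_perm (F : Multiset ℕ → ℂ) :
    ∑ π : Perm α, F (parts π) = (Fintype.card α).factorial * avg (Fintype.card α) F := by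
  rw [← sum_fiberwise_of_maps_to (s := univ) (t := Pt (Fintype.card α)) (g := parts)
    (fun π _ => parts_mem_Pt π), avg, mul_sum]
  refine sum_congr rfl fun ρ hρ => ?_
  obtain ⟨h1, h2⟩ := mem_Pt.1 hρ
  rw [sum_congr rfl (g := fun _ => F ρ) (fun π hπ => by rw [(mem_filter.1 hπ).2]), sum_const,
    nsmul_eq_mul, ← card_parts_mul h1 h2]
  have : (zz ρ : ℂ) ≠ 0 := Nat.cast_ne_zero.2 (zz_ne_zero h1)
  push_cast
  field_simp

theorem avg_zero (F : Multiset ℕ → ℂ) : avg 0 F = F 0 := by
  have : Pt 0 = {0} := by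
    ext ρ
    rw [mem_Pt, mem_singleton]
    refine ⟨fun ⟨h1, h2⟩ => ?_, by rintro rfl; simp⟩
    rw [Multiset.eq_zero_iff_forall_notMem]
    intro r hr
    have := h1 r hr
    have := Multiset.single_le_sum (fun _ _ => Nat.zero_le _) r hr
    omega
  simp [avg, this, zz]

theorem avg_rec (n : ℕ) (F : Multiset ℕ → ℂ) :
    n * avg n F = ∑ r ∈ Icc 1 n, avg (n - r) fun ρ => F (r ::ₘ ρ) := by
  have h1 : n * avg n F = ∑ ρ ∈ Pt n, ∑ r ∈ ρ.toFinset, F ρ / zz (ρ.erase r) := by
    rw [avg, mul_sum]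
    refine sum_congr rfl fun ρ hρ => ?_
    obtain ⟨h1, h2⟩ := mem_Pt.1 hρ
    have hz : (zz ρ : ℂ) ≠ 0 := Nat.cast_ne_zero.2 (zz_ne_zero h1)
    have e : (n : ℂ) = ∑ r ∈ ρ.toFinset, ((ρ.count r * r : ℕ) : ℂ) := by
      rw [← Nat.cast_sum, ← h2, Finset.sum_multiset_count]; rfl
    rw [e, sum_mul]
    refine sum_congr rfl fun r hr => ?_
    have hr' := Multiset.mem_toFinset.1 hr
    have hz' : (zz (ρ.erase r) : ℂ) ≠ 0 :=
      Nat.cast_ne_zero.2 (zz_ne_zero fun s hs => h1 s (Multiset.mem_of_mem_erase hs))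
    have h3 := zz_cons r (ρ.erase r)
    rw [Multiset.cons_erase hr', Multiset.count_erase_self,
      Nat.sub_add_cancel (Multiset.one_le_count_iff_mem.2 hr')] at h3
    rw [h3] at hz ⊢
    push_cast at hz ⊢
    have h4 : (r : ℂ) ≠ 0 := fun h => by simp [h] at hz
    have h5 : (ρ.count r : ℂ) ≠ 0 := fun h => by simp [h] at hz
    field_simp
  rw [h1]
  simp only [avg]
  rw [sum_sigma', sum_sigma']
  refine sum_bij' (fun x _ => ⟨x.2, x.1.erase x.2⟩) (fun x _ => ⟨x.1 ::ₘ x.2, x.1⟩) ?_ ?_ ?_ ?_ ?_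
  · rintro ⟨ρ, r⟩ h
    simp only [mem_sigma, mem_Pt, Multiset.mem_toFinset, mem_Icc] at h ⊢
    obtain ⟨⟨h1, h2⟩, h3⟩ := h
    have h4 := Multiset.sum_cons r (ρ.erase r)
    rw [Multiset.cons_erase h3] at h4
    exact ⟨⟨h1 r h3, by omega⟩, fun s hs => h1 s (Multiset.mem_of_mem_erase hs), by omega⟩
  · rintro ⟨r, ρ⟩ h
    simp only [mem_sigma, mem_Pt, Multiset.mem_toFinset, mem_Icc, Multiset.mem_cons,
      Multiset.sum_cons] at h ⊢
    obtain ⟨⟨h1, h2⟩, h3, h4⟩ := h
    refine ⟨⟨?_, by omega⟩, Or.inl trivial⟩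
    rintro s (rfl | hs)
    · exact h1
    · exact h3 s hs
  · rintro ⟨ρ, r⟩ h
    simp only [mem_sigma, Multiset.mem_toFinset] at h
    simp [Multiset.cons_erase h.2]
  · rintro ⟨r, ρ⟩ h
    simp
  · rintro ⟨ρ, r⟩ h
    simp only [mem_sigma, Multiset.mem_toFinset] at h
    simp [Multiset.cons_erase h.2]

/-- The generating function of the functions constant on the cycles. -/
theorem sum_fixed_prod {ι R : Type*} [Fintype ι] [DecidableEq ι] [CommSemiring R] (z : ι → R)
    (π : Perm α) : ∑ f : α → ι with f ∘ π = f, ∏ a, z (f a) =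
      ((parts π).map fun r => ∑ i, z i ^ r).prod := by
  let J := π.cycleFactorsFinset ⊕ {a // a ∉ π.support}
  let c : α → J := fun a => if h : a ∈ π.support then
    Sum.inl ⟨π.cycleOf a, Perm.cycleOf_mem_cycleFactorsFinset_iff.2 h⟩ else Sum.inr ⟨a, h⟩
  have hc1 : ∀ a (d : π.cycleFactorsFinset), c a = Sum.inl d ↔ a ∈ d.1.support := by
    intro a d
    constructor
    · intro e
      by_cases h : a ∈ π.support
      · simp only [c, dif_pos h] at e
        rw [← Sum.inl_injective e]
        exact Perm.mem_support_cycleOf_iff.2 ⟨Perm.SameCycle.refl _ _, h⟩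
      · simp only [c, dif_neg h] at e
        exact (Sum.inr_ne_inl e).elim
    · intro h
      have h1 : a ∈ π.support := Perm.mem_cycleFactorsFinset_support_le d.2 h
      simp only [c, dif_pos h1]
      exact congrArg Sum.inl (Subtype.ext (Perm.cycle_is_cycleOf h d.2).symm)
  have hc2 : ∀ a (b : {a // a ∉ π.support}), c a = Sum.inr b ↔ a = b := by
    intro a b
    by_cases h : a ∈ π.support
    · simp only [c, dif_pos h]
      refine ⟨fun e => (Sum.inl_ne_inr e).elim, fun e => (b.2 (e ▸ h)).elim⟩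
    · simp only [c, dif_neg h]
      exact ⟨fun e => congrArg Subtype.val (Sum.inr_injective e),
        fun e => congrArg Sum.inr (Subtype.ext e)⟩
  have hs : Surjective c := by
    rintro (d | b)
    · obtain ⟨a, ha⟩ := (Perm.mem_cycleFactorsFinset_iff.1 d.2).1.nonempty_support
      exact ⟨a, (hc1 a d).2 ha⟩
    · exact ⟨b, (hc2 _ b).2 rfl⟩
  have hπ : ∀ a, c (π a) = c a := by
    intro a
    rcases h : c a with d | b
    · rw [hc1] at h ⊢
      rw [← (Perm.mem_cycleFactorsFinset_iff.1 d.2).2 a h]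
      exact Perm.apply_mem_support.2 h
    · rw [hc2] at h ⊢
      rw [← h]
      exact Perm.notMem_support.1 (h ▸ b.2)
  have hf : ∀ f : α → ι, f ∘ π = f → ∀ a b, c a = c b → f a = f b := by
    intro f hf a b e
    rcases h : c b with d | b'
    · rw [h, hc1] at e
      rw [hc1] at h
      have h1 := Perm.cycle_is_cycleOf h d.2
      rw [h1, Perm.mem_support_cycleOf_iff] at e
      obtain ⟨k, -, rfl⟩ := e.1.exists_pow_eq'
      clear e
      induction k with
      | zero => rfl
      | succ k ih => rw [pow_succ', Perm.mul_apply, ← ih]; exact congrFun hf _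
    · rw [h, hc2] at e
      rw [hc2] at h
      rw [e, h]
  have h1 : ∑ f : α → ι with f ∘ π = f, ∏ a, z (f a) = ∑ g : J → ι, ∏ a, z (g (c a)) := by
    symm
    refine sum_bij (fun g _ => g ∘ c) ?_ ?_ ?_ ?_
    · intro g _
      simp only [mem_filter, mem_univ, true_and]
      funext a; simp [hπ]
    · intro g _ g' _ e
      exact hs.injective_comp_right e
    · intro f hf'
      refine ⟨f ∘ surjInv hs, mem_univ _, ?_⟩
      funext a
      exact hf f (mem_filter.1 hf').2 _ _ (surjInv_eq hs _)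
    · intro g _; rfl
  have h2 : ∀ g : J → ι, ∏ a, z (g (c a)) = ∏ j, z (g j) ^ #{a | c a = j} := by
    intro g
    rw [← prod_fiberwise (s := univ) (g := c)]
    refine prod_congr rfl fun j _ => ?_
    rw [prod_congr rfl (g := fun _ => z (g j)) (fun a ha => by rw [(mem_filter.1 ha).2]),
      prod_const]
  simp only [h1, h2]
  rw [← Fintype.piFinset_univ, ← prod_univ_sum (f := fun j i => z i ^ #{a | c a = j}),
    Fintype.prod_sum_type, parts_eq, Multiset.map_add, Multiset.prod_add, Multiset.map_replicate,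
    Multiset.prod_replicate, Perm.cycleType_def, Multiset.map_map]
  congr 1
  · change _ = ∏ d ∈ π.cycleFactorsFinset, ∑ i, z i ^ #d.support
    rw [← prod_coe_sort π.cycleFactorsFinset]
    refine prod_congr rfl fun d _ => ?_
    simp only [hc1, filter_univ_mem]
  · simp only [hc2]
    have : ∀ b : {a // a ∉ π.support}, #{a | a = b.1} = 1 := fun b => by simp [filter_eq']
    simp only [this, prod_const, card_univ, Fintype.card_subtype_compl, Fintype.card_coe]

end Cfsg.Agent.SymCh
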