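import Cfsg.Agent.Sym.Wt
import Cfsg.Agent.Sym.Cyc
import Cfsg.Agent.Char.Irr
import Mathlib.Algebra.MvPolynomial.Basic
import Mathlib.Algebra.MvPolynomial.NoZeroDivisors
import Mathlib.LinearAlgebra.Vandermonde

/-!
# The irreducible characters of the symmetric groups (Frobenius' formula)

`chi N β π` is the coefficient of `x ^ β` in `a_δ * p_π`.
-/

namespace Cfsg.Agent.SymCh

open Finset Function Equiv Cfsg Cfsg.Agent.Char
open scoped ComplexConjugate

variable {N : ℕ}

/-- The vacuum vector. -/
def del (N : ℕ) : Fin N → ℕ := fun k => k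

/-- Its degree. -/
def d0 (N : ℕ) : ℕ := ∑ k, del N k

theorem injective_del : Injective (del N) := Fin.val_injective

theorem wt_del {p : ℕ} (hp : 0 < p) : wt p (del N) = 0 :=
  wt_eq_zero_of hp injective_del fun j hj =>
    ⟨⟨j - p, by omega⟩, by simp only [del] at hj ⊢; omega⟩

theorem sum_eq_d0_add {β : Fin N → ℕ} (h : Injective β) : ∑ j, β j = wt 1 β + d0 N := by
  have := sum_add_wt one_pos h injective_del (resM_congr fun j => by simp [Nat.mod_one])
  rw [wt_del one_pos] at this
  rw [d0]
  omega

theorem Anti_eq_zero_of_lt {F : Fn N} (hF : F ∈ Anti N) {β : Fin N → ℕ} (h : ∑ j, β j < d0 N) :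
    F β = 0 :=
  Anti_eq_zero hF fun hi => by have := sum_eq_d0_add hi; omega

theorem U_comm (r s : ℕ) (F : Fn N) : U r (U s F) = U s (U r F) :=
  up_up_comm (fun _ => Iff.rfl) (fun _ => Iff.rfl) F

instance : LeftCommutative fun (r : ℕ) (F : Fn N) => U r F := ⟨U_comm⟩

/-- The state attached to a cycle type. -/
noncomputable def st (N : ℕ) (ρ : Multiset ℕ) : Fn N :=
  ρ.foldr (fun r F => U r F) (alt (del N))

theorem st_zero : st N 0 = alt (del N) := rfl

theorem st_cons (r : ℕ) (ρ : Multiset ℕ) : st N (r ::ₘ ρ) = U r (st N ρ) :=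
  Multiset.foldr_cons _ _ _ _

theorem st_replicate_add (w r : ℕ) (ρ : Multiset ℕ) :
    st N (Multiset.replicate w r + ρ) = (U r ^ w) (st N ρ) := by
  induction w with
  | zero => simp
  | succ w ih =>
    rw [Multiset.replicate_succ, Multiset.cons_add, st_cons, ih, pow_succ', Module.End.mul_apply]

theorem st_mem (ρ : Multiset ℕ) : st N ρ ∈ Anti N := by
  induction ρ using Multiset.induction_on with
  | empty => exact alt_mem _
  | cons r ρ ih => rw [st_cons]; exact up_mem ih _ _

theorem conj_st (ρ : Multiset ℕ) (β : Fin N → ℕ) : conj (st N ρ β) = st N ρ β := by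
  induction ρ using Multiset.induction_on generalizing β with
  | empty =>
    rw [st_zero, alt_apply, map_sum]
    refine sum_congr rfl fun σ _ => ?_
    split_ifs <;> simp
  | cons r ρ ih =>
    rw [st_cons, U_apply, map_sum]
    refine sum_congr rfl fun j _ => ?_
    split_ifs
    · exact ih _
    · simp

theorem sum_eq_of_st_ne {ρ : Multiset ℕ} {β : Fin N → ℕ} (h : st N ρ β ≠ 0) :
    ∑ j, β j = ρ.sum + d0 N := by
  induction ρ using Multiset.induction_on generalizing β with
  | empty =>
    obtain ⟨σ, rfl⟩ := exists_of_alt_ne h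
    rw [sum_comp_perm]; simp [d0]
  | cons r ρ ih =>
    rw [st_cons, U_apply] at h
    obtain ⟨j, -, hj⟩ := exists_ne_zero_of_sum_ne_zero h
    have h1 : r ≤ β j := by by_contra e; exact hj (if_neg e)
    rw [if_pos h1] at hj
    have h2 := ih hj
    have h3 := sum_update β j (β j - r)
    rw [Multiset.sum_cons]
    omega

theorem avg_sum {ι : Type*} (s : Finset ι) (n : ℕ) (F : ι → Multiset ℕ → ℂ) :
    avg n (fun ρ => ∑ i ∈ s, F i ρ) = ∑ i ∈ s, avg n (F i) := by
  simp only [avg, sum_div]
  exact sum_comm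

/-- First orthogonality relation. -/
theorem avg_st_mul_st (n : ℕ) : ∀ β γ : Fin N → ℕ,
    avg n (fun ρ => st N ρ β * st N ρ γ) = if ∑ j, β j = n + d0 N then alt γ β else 0 := by
  induction n using Nat.strong_induction_on with
  | _ n ih =>
  intro β γ
  rcases Nat.eq_zero_or_pos n with rfl | hn
  · rw [avg_zero, st_zero, zero_add]
    by_cases hβ : Injective β
    · split_ifs with h
      · have h1 := sum_eq_d0_add hβ
        obtain ⟨σ, rfl⟩ := exists_perm_of_wt_zero one_pos hβ injective_del
          (resM_congr fun j => by simp [Nat.mod_one]) (by omega) (wt_del one_pos)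
        rw [alt_mem, alt_mem, alt_self injective_del, alt_comm γ, mul_one]
      · rw [mul_eq_zero]
        left
        by_contra h1
        exact h (by simpa using sum_eq_of_st_ne (ρ := 0) h1)
    · rw [Anti_eq_zero (alt_mem _) hβ, Anti_eq_zero (alt_mem γ) hβ]; simp
  have hn' : (n : ℂ) ≠ 0 := Nat.cast_ne_zero.2 hn.ne'
  apply mul_left_cancel₀ hn'
  rw [avg_rec]
  have h1 : ∀ r ∈ Icc 1 n, avg (n - r) (fun ρ => st N (r ::ₘ ρ) β * st N (r ::ₘ ρ) γ) =
      if ∑ j, β j = n + d0 N then U r (dn r (fun _ => True) (alt γ)) β else 0 := by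
    intro r hr
    rw [mem_Icc] at hr
    simp only [st_cons, U_apply, sum_mul_sum, avg_sum]
    have h2 : ∀ j k, avg (n - r) (fun ρ =>
        (if r ≤ β j then st N ρ (update β j (β j - r)) else 0) *
        (if r ≤ γ k then st N ρ (update γ k (γ k - r)) else 0)) =
        if ∑ j, β j = n + d0 N then (if r ≤ β j then
          (if r ≤ γ k then alt (update γ k (γ k - r)) else 0) (update β j (β j - r)) else 0)
        else 0 := by
      intro j k
      by_cases hj : r ≤ β j
      · by_cases hk : r ≤ γ k
        · simp only [hj, hk, if_true]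
          rw [ih (n - r) (by omega)]
          have := sum_update β j (β j - r)
          exact if_congr (by omega) rfl rfl
        · simp [hk, avg]
      · simp [hj, avg]
    simp only [h2]
    split_ifs
    · refine sum_congr rfl fun j _ => ?_
      split_ifs
      · rw [dn_alt, Finset.sum_apply]
        refine sum_congr rfl fun k _ => ?_
        simp
      · simp
    · simp
  rw [sum_congr rfl h1]
  split_ifs with h
  swap
  · simp
  have h2 := L0 one_pos (alt_mem γ) β (R := n + d0 N) (fun j => by
    rw [← h]; exact single_le_sum (f := β) (fun _ _ => Nat.zero_le _) (mem_univ j))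
  simp only [range_one, sum_singleton, Nat.mod_one, one_mul] at h2
  rw [Finset.sum_apply] at h2
  have h3 : ∑ r ∈ Icc 1 n, U r (dn r (fun _ => True) (alt γ)) β =
      ∑ r ∈ Icc 1 (n + d0 N), U r (dn r (fun _ => True) (alt γ)) β := by
    refine sum_subset (Icc_subset_Icc_right (by omega)) fun r hr hr' => ?_
    rw [U_apply]
    refine sum_eq_zero fun j _ => ?_
    split_ifs with hj
    · apply Anti_eq_zero_of_lt (dn_mem (alt_mem γ) _ _)
      have := sum_update β j (β j - r)
      simp only [mem_Icc] at hr hr'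
      omega
    · rfl
  rw [h3, h2]
  by_cases hβ : Injective β
  · have := sum_eq_d0_add hβ
    rw [show wt 1 β = n by omega]
  · rw [Anti_eq_zero (alt_mem γ) hβ]; simp

open MvPolynomial in
/-- Coefficient function of a polynomial. -/
noncomputable def toFn (q : MvPolynomial (Fin N) ℂ) : Fn N :=
  fun β => coeff (Finsupp.equivFunOnFinite.symm β) q

open MvPolynomial in
theorem toFn_psum_mul (r : ℕ) (q : MvPolynomial (Fin N) ℂ) :
    toFn ((∑ i, X i ^ r) * q) = U r (toFn q) := by
  funext β
  rw [U_apply, toFn, sum_mul, coeff_sum]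
  refine sum_congr rfl fun j _ => ?_
  rw [X_pow_eq_monomial, coeff_monomial_mul', one_mul]
  refine if_congr (by simp [Finsupp.single_le_iff]) ?_ rfl
  rw [toFn]
  congr 1
  ext k
  by_cases hk : k = j
  · subst hk; simp
  · simp [update_of_ne hk, Finsupp.single_eq_of_ne hk]

open MvPolynomial in
/-- The Vandermonde alternant. -/
noncomputable def aD (N : ℕ) : MvPolynomial (Fin N) ℂ :=
  ∑ σ : Perm (Fin N), monomial (Finsupp.equivFunOnFinite.symm (del N ∘ σ)) ((Perm.sign σ : ℤ) : ℂ)

open MvPolynomial in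
theorem toFn_aD : toFn (aD N) = alt (del N) := by
  funext β
  rw [alt_apply, toFn, aD, coeff_sum]
  refine sum_congr rfl fun σ _ => ?_
  rw [coeff_monomial]
  exact if_congr (Equiv.apply_eq_iff_eq _) rfl rfl

open MvPolynomial in
theorem st_eq_toFn (ρ : Multiset ℕ) :
    st N ρ = toFn ((ρ.map fun r => ∑ i, X i ^ r).prod * aD N) := by
  induction ρ using Multiset.induction_on with
  | empty => simp [st_zero, toFn_aD]
  | cons r ρ ih => rw [st_cons, ih, Multiset.map_cons, Multiset.prod_cons, mul_assoc, toFn_psum_mul]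

variable {α : Type*} [Fintype α] [DecidableEq α]

/-- The (signed) irreducible character of the symmetric group with bead positions `β`. -/
noncomputable def chi (β : Fin N → ℕ) (π : Perm α) : ℂ := st N (parts π) β

/-- The content of a colouring. -/
noncomputable def cont (f : α → Fin N) : Fin N →₀ ℕ := ∑ a, Finsupp.single (f a) 1

omit [DecidableEq α] in
theorem cont_comp (f : α → Fin N) (g : Perm α) : cont (f ∘ g) = cont f :=
  Equiv.sum_comp g fun a => Finsupp.single (f a) 1

omit [DecidableEq α] in
theorem cont_apply (f : α → Fin N) (i : Fin N) : cont f i = #{a | f a = i} := by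
  rw [cont, Finsupp.finsetSum_apply, card_filter]
  exact sum_congr rfl fun a _ => Finsupp.single_apply

open MvPolynomial in
theorem coeff_psum_prod (π : Perm α) (μ : Fin N →₀ ℕ) :
    coeff μ ((parts π).map fun r => ∑ i, (X i : MvPolynomial (Fin N) ℂ) ^ r).prod =
      #{f : α → Fin N | f ∘ π = f ∧ cont f = μ} := by
  rw [← sum_fixed_prod, coeff_sum, ← filter_filter, card_filter, Nat.cast_sum]
  refine sum_congr rfl fun f _ => ?_
  have : ∏ a, (X (f a) : MvPolynomial (Fin N) ℂ) = monomial (cont f) 1 := by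
    rw [cont, monomial_sum_one]; rfl
  rw [this, coeff_monomial]
  split_ifs <;> simp

theorem isCharacter_fix (μ : Fin N →₀ ℕ) : IsCharacter (Perm α)
    fun π => (#{f : α → Fin N | f ∘ π = f ∧ cont f = μ} : ℂ) := by
  let _ : MulAction (Perm α) {f : α → Fin N // cont f = μ} :=
    { smul := fun g f => ⟨f.1 ∘ ⇑g⁻¹, by rw [cont_comp, f.2]⟩
      one_smul := fun f => rfl
      mul_smul := fun g h f => rfl }
  convert isCharacter_fixedBy (G := Perm α) {f : α → Fin N // cont f = μ} using 3 with π
  rw [← Nat.card_eq_finsetCard]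
  refine Nat.card_congr
    { toFun := fun f => ⟨⟨f.1, (mem_filter.1 f.2).2.2⟩, Subtype.ext ?_⟩
      invFun := fun f => ⟨f.1.1, mem_filter.2 ⟨mem_univ _, ?_, f.1.2⟩⟩
      left_inv := fun f => rfl
      right_inv := fun f => rfl }
  · change f.1 ∘ ⇑π⁻¹ = f.1
    conv_lhs => rw [← (mem_filter.1 f.2).2.1]
    funext a; simp
  · have : f.1.1 ∘ ⇑π⁻¹ = f.1.1 := congrArg Subtype.val f.2
    conv_lhs => rw [← this]
    funext a; simp

open MvPolynomial in
theorem isGen_chi (β : Fin N → ℕ) : IsGeneralizedCharacter (Perm α) (chi β) := by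
  have : (chi β : Perm α → ℂ) = ∑ σ : Perm (Fin N), ((Perm.sign σ : ℤ) : ℂ) •
      (if Finsupp.equivFunOnFinite.symm (del N ∘ σ) ≤ Finsupp.equivFunOnFinite.symm β then
        fun π : Perm α => (#{f : α → Fin N | f ∘ π = f ∧ cont f = Finsupp.equivFunOnFinite.symm β -
          Finsupp.equivFunOnFinite.symm (del N ∘ σ)} : ℂ) else 0) := by
    funext π
    rw [chi, st_eq_toFn, toFn, aD, mul_sum, coeff_sum, Finset.sum_apply]
    refine sum_congr rfl fun σ _ => ?_
    rw [coeff_mul_monomial', coeff_psum_prod]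
    split_ifs
    · simp [mul_comm]
    · simp
  rw [this]
  refine isGen_sum _ _ fun σ _ => Cfsg.Agent.Char.Cfsg.IsGeneralizedCharacter.intCast_smul ?_ _
  split_ifs
  · exact (isCharacter_fix _).isGen
  · exact isGen_zero

theorem isClassFunction_chi (β : Fin N → ℕ) : IsClassFunction (Perm α) (chi β) :=
  (isGen_chi β).isClassFunction

theorem conj_chi (β : Fin N → ℕ) (π : Perm α) : conj (chi β π) = chi β π := conj_st _ _

theorem sum_chi_mul_chi (β γ : Fin N → ℕ) : ∑ π : Perm α, chi β π * chi γ π =
    (Fintype.card α).factorial * if ∑ j, β j = Fintype.card α + d0 N then alt γ β else 0 := by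
  rw [← avg_st_mul_st, ← sum_perm]; rfl

theorem classInner_chi (β γ : Fin N → ℕ) : classInner (chi β : Perm α → ℂ) (chi γ) =
    if ∑ j, β j = Fintype.card α + d0 N then alt γ β else 0 := by
  rw [classInner_def]
  simp only [conj_chi]
  rw [sum_chi_mul_chi, Nat.card_eq_fintype_card, Fintype.card_perm, ← mul_assoc, inv_mul_cancel₀,
    one_mul]
  exact Nat.cast_ne_zero.2 (Nat.factorial_ne_zero _)

/-- `ψ` is the irreducible character labelled by `β`. -/
def Lab (β : Fin N → ℕ) (ψ : IrrCharacter (Perm α)) : Prop :=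
  Injective β ∧ ∑ j, β j = Fintype.card α + d0 N ∧
    (chi β = (ψ : Perm α → ℂ) ∨ chi β = -(ψ : Perm α → ℂ))

theorem exists_lab {β : Fin N → ℕ} (h : Injective β) (hs : ∑ j, β j = Fintype.card α + d0 N) :
    ∃ ψ : IrrCharacter (Perm α), Lab β ψ := by
  obtain ⟨χ, hχ, e⟩ := (isGen_chi (α := α) β).exists_irr_of_inner_self
    (by rw [classInner_chi, if_pos hs, alt_self h])
  exact ⟨⟨χ, hχ⟩, h, hs, e⟩

theorem Lab.exists_eq {β : Fin N → ℕ} {ψ : IrrCharacter (Perm α)} (h : Lab β ψ) :
    ∃ ε : ℂ, ε * ε = 1 ∧ ∀ π, (ψ : Perm α → ℂ) π = ε * chi β π := by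
  rcases h.2.2 with e | e
  · exact ⟨1, by simp, fun π => by simp [e]⟩
  · exact ⟨-1, by simp, fun π => by simp [e]⟩

theorem Lab.eq_zero_iff {β : Fin N → ℕ} {ψ : IrrCharacter (Perm α)} (h : Lab β ψ) (π : Perm α) :
    (ψ : Perm α → ℂ) π = 0 ↔ chi β π = 0 := by
  rcases h.2.2 with e | e <;> simp [e]

open MvPolynomial in
/-- Every irreducible character has a label. -/
theorem exists_lab_of_irr (hN : Fintype.card α ≤ N) (ψ : IrrCharacter (Perm α)) :
    ∃ β : Fin N → ℕ, Lab β ψ := by
  have h1 : ∃ β : Fin N → ℕ, classInner (chi β) (ψ : Perm α → ℂ) ≠ 0 := by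
    by_contra hc
    push Not at hc
    let Q : MvPolynomial (Fin N) ℂ := ∑ π : Perm α,
      C (conj ((ψ : Perm α → ℂ) π)) * ((parts π).map fun r => ∑ i, X i ^ r).prod
    have h2 : Q * aD N = 0 := by
      ext μ
      have := sum_mul_conj_eq (chi (Finsupp.equivFunOnFinite μ)) (ψ : Perm α → ℂ)
      rw [hc, mul_zero] at this
      rw [coeff_zero, ← this, sum_mul, coeff_sum]
      refine sum_congr rfl fun π _ => ?_
      rw [mul_assoc, coeff_C_mul, chi, st_eq_toFn, toFn, mul_comm]
      simp
    have h3 : aD N ≠ 0 := by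
      intro e
      have := congrFun (toFn_aD (N := N)) (del N)
      rw [e, alt_self injective_del] at this
      simp [toFn] at this
    have h4 : Q = 0 := (mul_eq_zero.1 h2).resolve_right h3
    obtain ⟨f0⟩ : Nonempty (α ↪ Fin N) := Function.Embedding.nonempty_of_card_le (by simpa)
    have h5 := congrArg (coeff (cont f0)) h4
    rw [coeff_zero, coeff_sum, sum_eq_single 1, coeff_C_mul, coeff_psum_prod] at h5
    · rcases mul_eq_zero.1 h5 with h6 | h6
      · exact ψ.2.one_ne_zero (by simpa using h6)
      · rw [Nat.cast_eq_zero, card_eq_zero, filter_eq_empty_iff] at h6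
        exact h6 (mem_univ (f0 : α → Fin N)) ⟨rfl, rfl⟩
    · intro π _ hπ
      rw [coeff_C_mul, coeff_psum_prod, mul_eq_zero, Nat.cast_eq_zero, card_eq_zero,
        filter_eq_empty_iff]
      right
      rintro f - ⟨e1, e2⟩
      apply hπ
      ext a
      have h6 : #{b | f b = f a} ≤ 1 := by
        rw [← cont_apply, e2, cont_apply, card_le_one]
        intro b hb c hc
        exact f0.injective ((mem_filter.1 hb).2.trans (mem_filter.1 hc).2.symm)
      rw [card_le_one] at h6
      exact h6 _ (mem_filter.2 ⟨mem_univ _, congrFun e1 a⟩) _ (mem_filter.2 ⟨mem_univ _, rfl⟩)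
    · simp
  obtain ⟨β, hβ⟩ := h1
  have h2 : ∃ π : Perm α, chi β π ≠ 0 := by
    by_contra hc
    push Not at hc
    exact hβ (by rw [show (chi β : Perm α → ℂ) = 0 from funext hc, classInner_zero_left])
  obtain ⟨π, hπ⟩ := h2
  have h3 : Injective β := by by_contra hc; exact hπ (Anti_eq_zero (st_mem _) hc)
  have h4 := sum_eq_of_st_ne hπ
  rw [sum_parts] at h4
  obtain ⟨ψ', h5⟩ := exists_lab (α := α) h3 h4
  have : ψ' = ψ := by
    classical
    by_contra hc
    apply hβ
    rcases h5.2.2 with e | e
    · rw [e, irr_inner, if_neg hc]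
    · rw [e, classInner_neg_left, irr_inner, if_neg hc, neg_zero]
  exact ⟨β, this ▸ h5⟩

theorem Lab.exists_perm {β γ : Fin N → ℕ} {ψ : IrrCharacter (Perm α)} (h : Lab β ψ)
    (h' : Lab γ ψ) : ∃ σ : Perm (Fin N), γ ∘ σ = β := by
  apply exists_of_alt_ne
  have h1 := classInner_chi (α := α) β γ
  rw [if_pos h.2.1] at h1
  rw [← h1]
  have h2 : classInner (ψ : Perm α → ℂ) ψ = 1 := by classical rw [irr_inner, if_pos rfl]
  rcases h.2.2 with e | e <;> rcases h'.2.2 with e' | e' <;>
    simp [e, e', classInner_neg_left, classInner_neg_right, h2]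

theorem Lab.unique {β : Fin N → ℕ} {ψ ψ' : IrrCharacter (Perm α)} (h : Lab β ψ) (h' : Lab β ψ') :
    ψ = ψ' := by
  classical
  by_contra hc
  have h1 := classInner_chi (α := α) β β
  rw [if_pos h.2.1, alt_self h.1] at h1
  have h2 : classInner (ψ : Perm α → ℂ) ψ' = 0 := by rw [irr_inner, if_neg hc]
  rcases h.2.2 with e | e <;> rcases h'.2.2 with e' | e' <;> nth_rw 1 [e] at h1 <;>
    rw [e'] at h1 <;> simp [classInner_neg_left, classInner_neg_right, h2] at h1

/-- The degree formula. -/
theorem st_one_mul (n : ℕ) : ∀ β : Fin N → ℕ, ∑ j, β j = n + d0 N →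
    st N (Multiset.replicate n 1) β * ∏ j, ((β j).factorial : ℂ) =
      n.factorial * ∏ i, ∏ j ∈ Ioi i, ((β j : ℂ) - β i) := by
  have h1 : ∀ n : ℕ, ∀ β : Fin N → ℕ, ∑ j, β j = n + d0 N → st N (Multiset.replicate n 1) β =
      n.factorial * ∑ σ : Perm (Fin N), ((Perm.sign σ : ℤ) : ℂ) *
        ∏ j, (((β j).descFactorial (σ j) : ℂ) / (β j).factorial) := by
    intro n
    induction n with
    | zero =>
      intro β hβ
      rw [Multiset.replicate_zero, st_zero, alt_apply, Nat.factorial_zero, Nat.cast_one, one_mul]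
      refine sum_congr rfl fun σ _ => ?_
      split_ifs with h
      · subst h
        rw [prod_eq_one, mul_one]
        intro j _
        simp only [comp_apply, del, Nat.descFactorial_self]
        exact div_self (Nat.cast_ne_zero.2 (Nat.factorial_ne_zero _))
      · have : ∃ j, β j < σ j := by
          by_contra hc
          push Not at hc
          apply h
          have h2 : ∑ j, (del N ∘ σ) j = ∑ j, β j := by rw [sum_comp_perm, hβ, zero_add, d0]
          funext j
          exact (sum_eq_sum_iff_of_le (fun j _ => hc j)).1 h2 j (mem_univ j)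
        obtain ⟨j, hj⟩ := this
        rw [prod_eq_zero (mem_univ j), mul_zero]
        rw [Nat.descFactorial_of_lt hj]; simp
    | succ n ih =>
      intro β hβ
      rw [Multiset.replicate_succ, st_cons, U_apply]
      have h2 : ∀ j, (if 1 ≤ β j then st N (Multiset.replicate n 1) (update β j (β j - 1)) else 0) =
          n.factorial * ∑ σ : Perm (Fin N), ((Perm.sign σ : ℤ) : ℂ) * (((β j : ℂ) - (σ j : ℕ)) *
          ∏ j, (((β j).descFactorial (σ j) : ℂ) / (β j).factorial)) := by
        intro j
        split_ifs with hj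
        · rw [ih _ (by have := sum_update β j (β j - 1); omega)]
          congr 1
          refine sum_congr rfl fun σ _ => ?_
          congr 1
          rw [← mul_prod_erase _ _ (mem_univ j), ← mul_prod_erase _ _ (mem_univ j), ← mul_assoc]
          congr 1
          · obtain ⟨b, hb⟩ : ∃ b, β j = b + 1 := ⟨β j - 1, by omega⟩
            rw [update_self, hb, Nat.add_sub_cancel, Nat.factorial_succ]
            have h3 := Nat.succ_descFactorial b (σ j)
            have h4 : (b.factorial : ℂ) ≠ 0 := Nat.cast_ne_zero.2 (Nat.factorial_ne_zero _)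
            have h5 : ((b + 1 : ℕ) : ℂ) ≠ 0 := Nat.cast_ne_zero.2 (by omega)
            by_cases h6 : (σ j : ℕ) ≤ b + 1
            · have h7 := congrArg (Nat.cast : ℕ → ℂ) h3
              rw [Nat.cast_mul, Nat.cast_mul, Nat.cast_sub h6] at h7
              rw [Nat.cast_mul]
              field_simp
              linear_combination -h7
            · rw [Nat.descFactorial_of_lt (by omega), Nat.descFactorial_of_lt (by omega)]; simp
          · exact prod_congr rfl fun k hk => by rw [update_of_ne (ne_of_mem_erase hk)]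
        · rw [eq_comm, mul_eq_zero]
          right
          refine sum_eq_zero fun σ _ => ?_
          have h3 : β j = 0 := by omega
          rw [← mul_prod_erase _ _ (mem_univ j), h3]
          rcases h4 : (σ j : ℕ) with _ | k <;> simp
      simp only [h2]
      rw [← mul_sum, sum_comm, Nat.factorial_succ, Nat.cast_mul, mul_comm ((n + 1 : ℕ) : ℂ),
        mul_assoc, mul_sum _ _ ((n + 1 : ℕ) : ℂ)]
      congr 1
      refine sum_congr rfl fun σ _ => ?_
      rw [← mul_sum, ← sum_mul, sum_sub_distrib, ← Nat.cast_sum, ← Nat.cast_sum, hβ,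
        show ∑ j, (σ j : ℕ) = d0 N from sum_comp_perm (del N) σ]
      push_cast
      ring
  intro β hβ
  rw [h1 n β hβ, mul_assoc, ← Matrix.det_vandermonde,
    Matrix.det_eval_matrixOfPolynomials_eq_det_vandermonde _ (fun i => descPochhammer ℂ i)
      (fun i => descPochhammer_natDegree ℂ i) (fun i => monic_descPochhammer ℂ i),
    ← Matrix.det_transpose, Matrix.det_apply', sum_mul]
  congr 1
  refine sum_congr rfl fun σ _ => ?_
  rw [mul_assoc, ← prod_mul_distrib]
  congr 1
  refine prod_congr rfl fun j _ => ?_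
  rw [div_mul_cancel₀ _ (Nat.cast_ne_zero.2 (Nat.factorial_ne_zero _))]
  simp [descPochhammer_eval_eq_descFactorial]

end Cfsg.Agent.SymCh
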