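import Cfsg.Agent.Sym.Reg
import Cfsg.Agent.Block.Section
import Cfsg.Agent.Block.Induced
import Cfsg.Agent.Block.Transport
import Cfsg.Agent.FGS.SecRank
import Mathlib.GroupTheory.Perm.ViaEmbedding

/-!
# Defect groups of blocks of symmetric groups: the lower bound
-/

namespace Cfsg.Agent.SymCh

open Finset Function Equiv Cfsg Cfsg.Agent.Char Cfsg.Agent.Block Subgroup

theorem exists_conj_le_of_ne_zero {G : Type*} [Group G] [Finite G] {p : ℕ} [Fact p.Prime]
    {M : Ideal AlgInt} (hM : IsPModular p M) {B : Set (IrrCharacter G)} (hB : IsPBlock M B)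
    {D : Subgroup G} (hD : IsDefectGroup p M B D) {χ : IrrCharacter G} (hχ : χ ∈ B) {x : G}
    (hx : ∃ k, orderOf x = p ^ k) (h0 : (χ : G → ℂ) x ≠ 0) (E : Subgroup (centralizer ({x} : Set G)))
    [E.Normal] (hE : IsPGroup p E) :
    ∃ g : G, ∀ c ∈ E, g * c * g⁻¹ ∈ D := by
  have h1 := blockPart_indSet_section_of_mem hM hx hB hχ (y := 1) (by
    rw [orderOf_one, Nat.dvd_one]; exact (Fact.out : p.Prime).ne_one)
  rw [OneMemClass.coe_one, mul_one] at h1
  obtain ⟨ξ, hξ⟩ : (indSet M (centralizer ({x} : Set G)) B).Nonempty := by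
    by_contra hc
    rw [Set.not_nonempty_iff_eq_empty] at hc
    rw [hc] at h1
    apply h0
    rw [← h1, blockPart]
    simp
  obtain ⟨Q, hQ⟩ := exists_isDefectGroup hM hξ.1
  obtain ⟨F, hF, h2⟩ := exists_defectGroup_ge_of_induced hM hξ hQ
  obtain ⟨g, rfl⟩ := exists_conj_eq_defectGroup hM hB hF hD
  exact ⟨g, fun c hc => ⟨c, h2 ⟨c, le_defectGroup_of_normal hM hξ.1 hQ E hE hc, rfl⟩, rfl⟩⟩

variable {N : ℕ}

/-- Products of power sums. -/
noncomputable def Us (ρ : Multiset ℕ) (F : Fn N) : Fn N := ρ.foldr (fun r G => U r G) F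

theorem Us_zero (F : Fn N) : Us 0 F = F := rfl

theorem Us_cons (r : ℕ) (ρ : Multiset ℕ) (F : Fn N) : Us (r ::ₘ ρ) F = U r (Us ρ F) :=
  Multiset.foldr_cons _ _ _ _

theorem Us_mem (ρ : Multiset ℕ) {F : Fn N} (hF : F ∈ Anti N) : Us ρ F ∈ Anti N := by
  induction ρ using Multiset.induction_on with
  | empty => exact hF
  | cons r ρ ih => rw [Us_cons]; exact up_mem ih _ _

theorem st_add (ρ σ : Multiset ℕ) : st N (ρ + σ) = Us ρ (st N σ) := by
  induction ρ using Multiset.induction_on with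
  | empty => rw [zero_add, Us_zero]
  | cons r ρ ih => rw [Multiset.cons_add, st_cons, Us_cons, ih]

theorem Us_replicate (w r : ℕ) (F : Fn N) : Us (Multiset.replicate w r) F = (U r ^ w) F := by
  induction w with
  | zero => rfl
  | succ w ih => rw [Multiset.replicate_succ, Us_cons, ih, pow_succ']; rfl

theorem Us_eq {p : ℕ} (hp : 0 < p) {κ : Fin N → ℕ} (hκ : Injective κ) (h0 : wt p κ = 0)
    {F : Fn N} (hF : F ∈ Anti N) (ρ : Multiset ℕ) : ∀ β : Fin N → ℕ, (∀ r ∈ ρ, p ∣ r) →
      Injective β → resM p β = resM p κ → ρ.sum = p * wt p β →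
      Us ρ F β = F κ * Us ρ (alt κ) β := by
  induction ρ using Multiset.induction_on with
  | empty =>
    intro β _ hβ hr hs
    have hw : wt p β = 0 := by
      rcases Nat.mul_eq_zero.1 hs.symm with h | h
      · omega
      · exact h
    obtain ⟨σ, rfl⟩ := exists_perm_of_wt_zero hp hβ hκ hr hw h0
    rw [Us_zero, Us_zero, hF, alt_mem, alt_self hκ]
    ring
  | cons r ρ ih =>
    intro β hρ hβ hr hs
    obtain ⟨r, rfl⟩ := hρ r (Multiset.mem_cons_self _ _)
    rw [Us_cons, Us_cons, U_apply, U_apply, mul_sum]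
    refine sum_congr rfl fun j _ => ?_
    split_ifs with h1
    · by_cases h2 : Injective (update β j (β j - p * r))
      · refine ih _ (fun t ht => hρ t (Multiset.mem_cons_of_mem ht)) h2 ?_ ?_
        · rw [resM_update β j (sub_mul_mod h1), hr]
        · rw [← wt_update_sub hp hβ h1 h2, Multiset.sum_cons, mul_add] at hs
          omega
      · rw [Anti_eq_zero (Us_mem ρ hF) h2, Anti_eq_zero (Us_mem ρ (alt_mem κ)) h2, mul_zero]
    · rw [mul_zero]

theorem st_add_eq {p : ℕ} (hp : 0 < p) {β : Fin N → ℕ} (hβ : Injective β) {ρ : Multiset ℕ}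
    (h1 : ∀ r ∈ ρ, p ∣ r) (h2 : ρ.sum = p * wt p β) (σ : Multiset ℕ) :
    st N (ρ + σ) β = st N σ (core p β) * Us ρ (alt (core p β)) β := by
  rw [st_add, Us_eq hp (injective_core hp hβ) (wt_core hp hβ) (st_mem σ) ρ β h1 hβ
    (resM_core p β).symm h2]

theorem d0_le {β : Fin N → ℕ} (hβ : Injective β) : d0 N ≤ ∑ j, β j := by
  rw [sum_eq_d0_add hβ]; omega

theorem mul_wt_le_of_sum {p n : ℕ} (hp : 0 < p) {β : Fin N → ℕ} (hβ : Injective β)
    (hs : ∑ j, β j = n + d0 N) : p * wt p β ≤ n := by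
  have h1 := sum_core hp hβ
  have h2 := d0_le (injective_core hp hβ)
  omega

theorem st_replicate_replicate_ne_zero {p m : ℕ} (hp : 0 < p) {β : Fin N → ℕ} (hβ : Injective β)
    (hs : ∑ j, β j = p * wt p β + m + d0 N) :
    st N (Multiset.replicate (wt p β) p + Multiset.replicate m 1) β ≠ 0 := by
  rw [st_add_eq hp hβ (fun r hr => by rw [Multiset.eq_of_mem_replicate hr])
    (by simp [mul_comm]), Us_replicate]
  obtain ⟨c, hc, e⟩ := U_pow_alt_pos hp (wt_core hp hβ) _ β hβ (al_core hp hβ) rfl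
  rw [e]
  refine mul_ne_zero ?_ (Nat.cast_ne_zero.2 hc.ne')
  have h1 := sum_core hp hβ
  have h2 := st_one_mul m (core p β) (by omega)
  intro h
  rw [h, zero_mul, eq_comm, mul_eq_zero] at h2
  rcases h2 with h2 | h2
  · exact m.factorial_ne_zero (by exact_mod_cast h2)
  · obtain ⟨i, -, h3⟩ := prod_eq_zero_iff.1 h2
    obtain ⟨j, hj, h4⟩ := prod_eq_zero_iff.1 h3
    rw [sub_eq_zero, Nat.cast_inj] at h4
    exact (mem_Ioi.1 hj).ne' (injective_core hp hβ h4)

variable {α : Type*} [Fintype α] [DecidableEq α]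

/-- The base group of the centraliser of `x`. -/
def base (x : Perm α) : Subgroup (centralizer ({x} : Set (Perm α))) where
  carrier := {c | ∀ a, x.SameCycle a (c.1 a)}
  mul_mem' {c d} hc hd a := (hd a).trans (hc _)
  one_mem' a := Perm.SameCycle.refl _ _
  inv_mem' {c} hc a := by
    have := (hc (c.1⁻¹ a)).symm
    simpa using this

omit [Fintype α] [DecidableEq α] in
theorem commute_of_mem_centralizer {x : Perm α} (c : centralizer ({x} : Set (Perm α))) :
    Commute x c.1 := c.2 x rfl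

instance (x : Perm α) : (base x).Normal := ⟨fun c hc g a => by
  obtain ⟨i, hi⟩ := hc (g.1⁻¹ a)
  refine ⟨i, ?_⟩
  change _ = g.1 (c.1 (g.1⁻¹ a))
  rw [← hi, ← Perm.mul_apply, ← ((commute_of_mem_centralizer g).zpow_left i).eq]
  simp⟩

omit [Fintype α] [DecidableEq α] in
theorem isPGroup_base {x : Perm α} {p : ℕ} (hx : x ^ p = 1) : IsPGroup p (base x) := by
  rintro ⟨c, hc⟩
  refine ⟨1, Subtype.ext (Subtype.ext ?_)⟩
  ext a
  obtain ⟨i, hi⟩ := hc a
  have : ∀ k : ℕ, (c.1 ^ k) a = ((x ^ i) ^ k) a := by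
    intro k
    induction k with
    | zero => rfl
    | succ k ih =>
      rw [pow_succ', Perm.mul_apply, ih, ← Perm.mul_apply,
        ← (((commute_of_mem_centralizer c).zpow_left i).pow_left k).eq, Perm.mul_apply, ← hi,
        pow_succ, Perm.mul_apply]
  simp only [pow_one, SubmonoidClass.coe_pow, OneMemClass.coe_one, Perm.coe_one, id_eq]
  rw [this, ← zpow_natCast, ← zpow_mul, mul_comm, zpow_mul, zpow_natCast, hx, one_zpow]
  rfl

theorem apply_eq_of_commute_base {x y : Perm α} {p : ℕ} (hp : p.Prime) (hx : x ^ p = 1)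
    (hy : ¬ p ∣ orderOf y) (h : ∀ c ∈ base x, Commute y c.1) {a : α} (ha : x a ≠ a) : y a = a := by
  have hc : x.cycleOf a ∈ centralizer ({x} : Set (Perm α)) := by
    rintro _ rfl
    exact (Perm.self_mem_cycle_factors_commute
      (Perm.cycleOf_mem_cycleFactorsFinset_iff.2 (Perm.mem_support.2 ha))).symm.eq
  have h1 : Commute y (x.cycleOf a) := h ⟨_, hc⟩ fun b => by
    change x.SameCycle b (x.cycleOf a b)
    rw [Perm.cycleOf_apply]
    split_ifs
    · exact ⟨1, by simp⟩
    · exact Perm.SameCycle.refl _ _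
  set c := x.cycleOf a with hcdef
  have h2 : c a ≠ a := by rwa [hcdef, Perm.cycleOf_apply_self]
  have h3 : c (y a) ≠ y a := by
    rw [← Perm.mul_apply, ← h1.eq, Perm.mul_apply]
    exact y.injective.ne h2
  obtain ⟨i, hi⟩ := (Perm.isCycle_cycleOf x ha).exists_pow_eq h2 h3
  have h4 : ∀ k : ℕ, (y ^ k) a = ((c ^ i) ^ k) a := by
    intro k
    induction k with
    | zero => rfl
    | succ k ih =>
      rw [pow_succ', Perm.mul_apply, ih, ← Perm.mul_apply,
        ((h1.pow_right i).pow_right k).eq, Perm.mul_apply, ← hi, pow_succ, Perm.mul_apply]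
  have h5 : (y ^ p) a = a := by
    rw [h4, ← pow_mul, hcdef, Perm.cycleOf_pow_apply_self, mul_comm, pow_mul, hx, one_pow]
    rfl
  have h6 : (y ^ orderOf y) a = a := by rw [pow_orderOf_eq_one]; rfl
  have h7 := Function.IsPeriodicPt.gcd (f := y) (x := a) (m := p) (n := orderOf y) h5 h6
  rw [(hp.coprime_iff_not_dvd.2 hy).gcd_eq_one] at h7
  exact h7

theorem pow_eq_one_of_parts {x : Perm α} {p w m : ℕ}
    (h : parts x = Multiset.replicate w p + Multiset.replicate m 1) : x ^ p = 1 :=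
  orderOf_dvd_iff_pow_eq_one.1 (orderOf_dvd_of_parts fun r hr => by
    simp only [h, Multiset.mem_add, Multiset.mem_replicate] at hr
    rcases hr with ⟨-, rfl⟩ | ⟨-, rfl⟩ <;> simp)

theorem card_support_of_parts {x : Perm α} {p w m : ℕ} (hp : 2 ≤ p)
    (h : parts x = Multiset.replicate w p + Multiset.replicate m 1) : #x.support = p * w := by
  rw [← Perm.sum_cycleType, ← filter_parts, h, Multiset.filter_add,
    Multiset.filter_eq_self.2 fun r hr => by rwa [Multiset.eq_of_mem_replicate hr],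
    Multiset.filter_eq_nil.2 fun r hr => by rw [Multiset.eq_of_mem_replicate hr]; omega]
  simp [mul_comm]

omit [Fintype α] [DecidableEq α] in
theorem commute_viaEmbedding {γ : Type*} {e : γ ↪ α} {g : Perm α} (h : ∀ b, g (e b) = e b)
    (q : Perm γ) : Commute g (q.viaEmbedding e) := by
  ext a
  simp only [Perm.mul_apply]
  by_cases ha : a ∈ Set.range e
  · obtain ⟨b, rfl⟩ := ha
    rw [h, Perm.viaEmbedding_apply, h]
  · rw [Perm.viaEmbedding_apply_of_notMem _ _ _ ha, Perm.viaEmbedding_apply_of_notMem]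
    rintro ⟨b, hb⟩
    exact ha ⟨b, g.injective ((h b).trans hb)⟩

omit [Fintype α] [DecidableEq α] in
theorem conj_viaEmbedding {γ : Type*} (e : γ ↪ α) (g : Perm α) (q : Perm γ) :
    g * q.viaEmbedding e * g⁻¹ = q.viaEmbedding (e.trans g.toEmbedding) := by
  rw [mul_inv_eq_iff_eq_mul]
  ext a
  simp only [Perm.mul_apply]
  by_cases ha : a ∈ Set.range e
  · obtain ⟨b, rfl⟩ := ha
    rw [Perm.viaEmbedding_apply]
    exact (Perm.viaEmbedding_apply q (e.trans g.toEmbedding) b).symm
  · rw [Perm.viaEmbedding_apply_of_notMem _ _ _ ha, Perm.viaEmbedding_apply_of_notMem]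
    rintro ⟨b, hb⟩
    exact ha ⟨b, g.injective hb⟩

theorem sign_viaEmbedding {γ : Type*} [Fintype γ] [DecidableEq γ] (e : γ ↪ α) (q : Perm γ) :
    Perm.sign (q.viaEmbedding e) = Perm.sign q := by
  rw [Perm.viaEmbedding]
  convert Perm.sign_extendDomain q _

variable {p : ℕ} [hp : Fact p.Prime] {M : Ideal AlgInt} {B : Set (IrrCharacter (Perm α))}
  {D : Subgroup (Perm α)} {χ : IrrCharacter (Perm α)} {β : Fin N → ℕ}

theorem Lab.exists_base_le (h : Lab β χ) (hM : IsPModular p M) (hB : IsPBlock M B)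
    (hD : IsDefectGroup p M B D) (hχ : χ ∈ B) :
    ∃ x : Perm α, parts x = Multiset.replicate (wt p β) p +
      Multiset.replicate (Fintype.card α - p * wt p β) 1 ∧ ∀ c ∈ base x, c.1 ∈ D := by
  have hp0 := hp.out.pos
  have h1 := mul_wt_le_of_sum hp0 h.1 h.2.1
  obtain ⟨x, hx⟩ := exists_parts_eq α (ρ := Multiset.replicate (wt p β) p +
      Multiset.replicate (Fintype.card α - p * wt p β) 1) (fun r hr => by
    simp only [Multiset.mem_add, Multiset.mem_replicate] at hr
    omega) (by simp [mul_comm (wt p β), h1])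
  have h2 := pow_eq_one_of_parts hx
  have h3 : (χ : Perm α → ℂ) x ≠ 0 := by
    rw [Ne, h.eq_zero_iff, chi, hx]
    exact st_replicate_replicate_ne_zero hp0 h.1 (by rw [h.2.1]; omega)
  obtain ⟨g, hg⟩ := exists_conj_le_of_ne_zero hM hB hD hχ (by
    rcases (Nat.dvd_prime hp.out).1 (orderOf_dvd_of_pow_eq_one h2) with h4 | h4
    · exact ⟨0, by simpa using h4⟩
    · exact ⟨1, by simpa using h4⟩) h3 (base x) (isPGroup_base h2)
  refine ⟨g * x * g⁻¹, ?_, fun c hc => ?_⟩
  · rw [← hx, ← isConj_iff_parts]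
    exact (isConj_iff.2 ⟨g, rfl⟩).symm
  · have h4 : g⁻¹ * c * g ∈ centralizer ({x} : Set (Perm α)) := by
      rw [mem_centralizer_singleton_iff]
      have := (commute_of_mem_centralizer c).eq
      calc _ = g⁻¹ * (c * (g * x * g⁻¹)) * g := by group
        _ = _ := by rw [← this]; group
    have h5 := hg ⟨_, h4⟩ fun a => by
      obtain ⟨i, hi⟩ := hc (g a)
      refine ⟨i, ?_⟩
      rw [conj_zpow] at hi
      simp only [Perm.mul_apply] at hi ⊢
      rw [← hi]
      simp
    simpa [mul_assoc] using h5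

theorem Lab.exists_fix (h : Lab β χ) (hM : IsPModular p M) (hB : IsPBlock M B)
    (hD : IsDefectGroup p M B D) (hχ : χ ∈ B) :
    ∃ x : Perm α, parts x = Multiset.replicate (wt p β) p +
      Multiset.replicate (Fintype.card α - p * wt p β) 1 ∧
      ∀ y ∈ centralizer (D : Set (Perm α)), ¬ p ∣ orderOf y → ∀ a ∈ x.support, y a = a := by
  obtain ⟨x, h1, h2⟩ := h.exists_base_le hM hB hD hχ
  exact ⟨x, h1, fun y hy hy' a ha => apply_eq_of_commute_base hp.out (pow_eq_one_of_parts h1) hy'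
    (fun c hc => (hy c (h2 c hc)).symm) (Perm.mem_support.1 ha)⟩

theorem Lab.exists_embedding (h : Lab β χ) (hM : IsPModular p M) (hB : IsPBlock M B)
    (hD : IsDefectGroup p M B D) (hχ : χ ∈ B) {γ K : Type*} [Fintype γ] [Group K]
    (hγ : Fintype.card γ ≤ p * wt p β) (hK : IsPGroup p K) (f : K →* Perm γ) :
    ∃ e : γ ↪ α, ∀ k, (f k).viaEmbedding e ∈ D := by
  obtain ⟨x, h1, h2⟩ := h.exists_fix hM hB hD hχ
  obtain ⟨g, hg, P, hP⟩ := id hD
  have h3 := h2 g (by
    rw [hP]
    rintro _ ⟨c, -, rfl⟩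
    exact (commute_of_mem_centralizer c).eq.symm) (not_dvd_orderOf_of_defectClass hM hB hg)
  obtain ⟨e⟩ : Nonempty (γ ↪ x.support) := Function.Embedding.nonempty_of_card_le (by
    rwa [Fintype.card_coe, card_support_of_parts hp.out.two_le h1])
  let e' : γ ↪ α := e.trans (Function.Embedding.subtype _)
  obtain ⟨y, hy⟩ := exists_conj_le_defectGroup hM hB hD
    (Q := ((Perm.viaEmbeddingHom e').comp f).range) (c := g)
    (hK.of_surjective _ (MonoidHom.rangeRestrict_surjective _)) (by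
      rintro _ ⟨k, rfl⟩
      exact (commute_viaEmbedding (fun b => h3 _ (e b).2) _).eq.symm)
    ((isDefectClass_iff hM).1 hg).1
  refine ⟨e'.trans y.toEmbedding, fun k => ?_⟩
  rw [← conj_viaEmbedding]
  exact hy ⟨_, ⟨k, rfl⟩, rfl⟩

/-- The product of regular representations. -/
def prodReg (ι K : Type*) [Group K] : (ι → K) →* Perm (ι × K) where
  toFun v := prodCongrRight fun i => Equiv.mulLeft (v i)
  map_one' := by ext ⟨i, a⟩ <;> simp
  map_mul' v u := by ext ⟨i, a⟩ <;> simp

theorem prodReg_apply {ι K : Type*} [Group K] (v : ι → K) (i : ι) (a : K) :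
    prodReg ι K v (i, a) = (i, v i * a) := rfl

theorem prodReg_injective (ι K : Type*) [Group K] : Injective (prodReg ι K) := by
  intro v u h
  funext i
  have := congrArg (fun σ : Perm (ι × K) => (σ (i, 1)).2) h
  simpa [prodReg_apply] using this

theorem card_le_of_sec {D K : Type*} [Group D] [Group K] {p s : ℕ} (hs : SectionalPRankLE p s D)
    (f : K →* D) (hf : Injective f) (hc : ∀ a b : K, a * b = b * a) (hp : ∀ a : K, a ^ p = 1) :
    Nat.card K ≤ p ^ s := by
  have := FGS.SecRank.relIndex_le (FGS.SecRank.of_injective hs f hf) (N := ⊥) (H := ⊤)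
    (commutator_le.2 fun a _ b _ => by rw [mem_bot, commutatorElement_eq_one_iff_mul_comm, hc])
    fun a _ => by rw [hp]; exact one_mem _
  rwa [relIndex_top_right, index_bot] at this

theorem pos_of_sec {D : Type*} [Group D] [Finite D] [Nontrivial D] {p s : ℕ} [hp : Fact p.Prime]
    (hD : IsPGroup p D) (hs : SectionalPRankLE p s D) : 0 < s := by
  obtain ⟨n, hn, h⟩ := hD.nontrivial_iff_card.1 inferInstance
  obtain ⟨g, hg⟩ := exists_prime_orderOf_dvd_card' (G := D) p (h ▸ dvd_pow_self p hn.ne')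
  have := card_le_of_sec hs (zpowers g).subtype (subtype_injective _)
    (fun a b => IsMulCommutative.is_comm.comm a b) (by
    rintro ⟨_, i, rfl⟩
    ext
    simp only [SubmonoidClass.coe_pow, OneMemClass.coe_one]
    rw [← zpow_natCast, ← zpow_mul, mul_comm, zpow_mul, zpow_natCast, ← hg, pow_orderOf_eq_one,
      one_zpow])
  rw [Nat.card_zpowers, hg] at this
  rcases Nat.eq_zero_or_pos s with rfl | h
  · exact absurd hp.out.two_le (by simp at this; omega)
  · exact h

end Cfsg.Agent.SymCh
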