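import Mathlib.GroupTheory.Perm.Sign
import Mathlib.Data.Complex.Basic
import Mathlib.Algebra.Order.Antidiag.Pi
import Mathlib.Algebra.BigOperators.Intervals
import Mathlib.Algebra.Module.Submodule.Map
import Mathlib.Algebra.Module.Pi
import Mathlib.Tactic

/-!
# Antisymmetric functions of exponent vectors (a finite fermionic Fock space)

`Fn N` are functions on `Fin N → ℕ`; `up m P` moves a bead by `m` (multiplication with a power
sum when `P` is trivial), `dn m P` is the adjoint, `alt γ` the alternant.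
-/

namespace Cfsg.Agent.SymCh

open Finset Function Equiv

variable {N : ℕ}

/-- Functions on exponent vectors. -/
abbrev Fn (N : ℕ) := (Fin N → ℕ) → ℂ

open Classical in
/-- Raising operator. -/
noncomputable def up (m : ℕ) (P : ℕ → Prop) : Fn N →ₗ[ℂ] Fn N where
  toFun F γ := ∑ j, if m ≤ γ j ∧ P (γ j) then F (update γ j (γ j - m)) else 0
  map_add' F G := by
    funext γ
    simp only [Pi.add_apply, ← sum_add_distrib]
    refine sum_congr rfl fun j _ => ?_
    split_ifs <;> simp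
  map_smul' c F := by
    funext γ
    simp only [Pi.smul_apply, smul_eq_mul, RingHom.id_apply, mul_sum]
    refine sum_congr rfl fun j _ => ?_
    split_ifs <;> simp

open Classical in
/-- Lowering operator. -/
noncomputable def dn (m : ℕ) (P : ℕ → Prop) : Fn N →ₗ[ℂ] Fn N where
  toFun F γ := ∑ j, if P (γ j) then F (update γ j (γ j + m)) else 0
  map_add' F G := by
    funext γ
    simp only [Pi.add_apply, ← sum_add_distrib]
    refine sum_congr rfl fun j _ => ?_
    split_ifs <;> simp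
  map_smul' c F := by
    funext γ
    simp only [Pi.smul_apply, smul_eq_mul, RingHom.id_apply, mul_sum]
    refine sum_congr rfl fun j _ => ?_
    split_ifs <;> simp

open Classical in
theorem up_apply (m : ℕ) (P : ℕ → Prop) (F : Fn N) (γ : Fin N → ℕ) :
    up m P F γ = ∑ j, if m ≤ γ j ∧ P (γ j) then F (update γ j (γ j - m)) else 0 := rfl

open Classical in
theorem dn_apply (m : ℕ) (P : ℕ → Prop) (F : Fn N) (γ : Fin N → ℕ) :
    dn m P F γ = ∑ j, if P (γ j) then F (update γ j (γ j + m)) else 0 := rfl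

/-- Multiplication with the power sum. -/
noncomputable abbrev U (m : ℕ) : Fn N →ₗ[ℂ] Fn N := up m fun _ => True

theorem U_apply (m : ℕ) (F : Fn N) (γ : Fin N → ℕ) :
    U m F γ = ∑ j, if m ≤ γ j then F (update γ j (γ j - m)) else 0 := by
  rw [up_apply]
  refine sum_congr rfl fun j _ => ?_
  simp

theorem up_up_comm {m m' : ℕ} {P P' : ℕ → Prop} (h : ∀ b, P (b + m') ↔ P b)
    (h' : ∀ b, P' (b + m) ↔ P' b) (F : Fn N) :
    up m P (up m' P' F) = up m' P' (up m P F) := by
  classical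
  funext γ
  have key : ∀ (m m' : ℕ) (P P' : ℕ → Prop), up m P (up m' P' F) γ =
      ∑ j, ∑ k, if (m ≤ γ j ∧ P (γ j)) ∧ (m' ≤ update γ j (γ j - m) k ∧
        P' (update γ j (γ j - m) k)) then
        F (update (update γ j (γ j - m)) k (update γ j (γ j - m) k - m')) else 0 := by
    intro m m' P P'
    rw [up_apply]
    refine sum_congr rfl fun j _ => ?_
    by_cases hj : m ≤ γ j ∧ P (γ j)
    · rw [if_pos hj, up_apply]
      refine sum_congr rfl fun k _ => ?_
      simp only [hj, true_and, and_self]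
    · rw [if_neg hj]
      simp [hj]
  rw [key, key, sum_comm]
  refine sum_congr rfl fun k _ => sum_congr rfl fun j _ => ?_
  by_cases hjk : j = k
  · subst hjk
    simp only [update_self, update_idem]
    have e : γ j - m - m' = γ j - m' - m := by omega
    rw [e]
    refine if_congr ?_ rfl rfl
    constructor
    · rintro ⟨⟨h1, h2⟩, h3, h4⟩
      refine ⟨⟨by omega, ?_⟩, by omega, ?_⟩
      · rw [← h', Nat.sub_add_cancel h1] at h4; exact h4
      · rw [← h, Nat.sub_add_cancel (by omega)]; exact h2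
    · rintro ⟨⟨h1, h2⟩, h3, h4⟩
      refine ⟨⟨by omega, ?_⟩, by omega, ?_⟩
      · rw [← h, Nat.sub_add_cancel h1] at h4; exact h4
      · rw [← h', Nat.sub_add_cancel (by omega)]; exact h2
  · rw [update_of_ne (Ne.symm hjk), update_of_ne hjk, update_comm hjk]
    exact if_congr and_comm rfl rfl

/-- Antisymmetric functions. -/
def Anti (N : ℕ) : Submodule ℂ (Fn N) where
  carrier := {F | ∀ (σ : Perm (Fin N)) γ, F (γ ∘ σ) = ((Perm.sign σ : ℤ) : ℂ) * F γ}
  add_mem' {F G} hF hG σ γ := by simp only [Pi.add_apply, hF σ γ, hG σ γ, mul_add]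
  zero_mem' σ γ := by simp
  smul_mem' c F hF σ γ := by simp only [Pi.smul_apply, smul_eq_mul, hF σ γ]; ring

theorem mem_Anti {F : Fn N} :
    F ∈ Anti N ↔ ∀ (σ : Perm (Fin N)) γ, F (γ ∘ σ) = ((Perm.sign σ : ℤ) : ℂ) * F γ := Iff.rfl

theorem update_comp_perm (γ : Fin N → ℕ) (σ : Perm (Fin N)) (j : Fin N) (v : ℕ) :
    update (γ ∘ σ) j v = update γ (σ j) v ∘ σ := by
  funext k
  by_cases h : k = j
  · subst h; simp
  · simp [update_of_ne h, update_of_ne (σ.injective.ne h)]

theorem up_mem {F : Fn N} (hF : F ∈ Anti N) (m : ℕ) (P : ℕ → Prop) : up m P F ∈ Anti N := by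
  intro σ γ
  rw [up_apply, up_apply, mul_sum]
  conv_rhs => rw [← Equiv.sum_comp σ]
  refine sum_congr rfl fun j _ => ?_
  simp only [comp_apply, update_comp_perm]
  split_ifs
  · exact hF σ _
  · simp

theorem dn_mem {F : Fn N} (hF : F ∈ Anti N) (m : ℕ) (P : ℕ → Prop) : dn m P F ∈ Anti N := by
  intro σ γ
  rw [dn_apply, dn_apply, mul_sum]
  conv_rhs => rw [← Equiv.sum_comp σ]
  refine sum_congr rfl fun j _ => ?_
  simp only [comp_apply, update_comp_perm]
  split_ifs
  · exact hF σ _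
  · simp

theorem Anti_swap {F : Fn N} (hF : F ∈ Anti N) {j k : Fin N} (h : j ≠ k) (γ : Fin N → ℕ) :
    F (γ ∘ swap j k) = -F γ := by
  rw [hF, Perm.sign_swap h]; simp

theorem Anti_eq_zero {F : Fn N} (hF : F ∈ Anti N) {γ : Fin N → ℕ} (h : ¬ Injective γ) :
    F γ = 0 := by
  simp only [Injective, not_forall] at h
  obtain ⟨j, k, h1, h2⟩ := h
  have e : γ ∘ swap j k = γ := by
    funext l
    simp only [comp_apply]
    rcases eq_or_ne l j with rfl | h3
    · simp [h1]
    rcases eq_or_ne l k with rfl | h4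
    · simp [h1]
    · rw [swap_apply_of_ne_of_ne h3 h4]
  have := Anti_swap hF h2 γ
  rw [e] at this
  linear_combination this / 2

theorem sgn_mul_self (σ : Perm (Fin N)) :
    ((Perm.sign σ : ℤ) : ℂ) * ((Perm.sign σ : ℤ) : ℂ) = 1 := by
  rcases Int.units_eq_one_or (Perm.sign σ) with h | h <;> simp [h]

theorem sgn_ne_zero (σ : Perm (Fin N)) : ((Perm.sign σ : ℤ) : ℂ) ≠ 0 := by
  rcases Int.units_eq_one_or (Perm.sign σ) with h | h <;> simp [h]

/-- The alternant. -/
noncomputable def alt (γ : Fin N → ℕ) : Fn N :=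
  fun β => ∑ σ : Perm (Fin N), if γ ∘ σ = β then ((Perm.sign σ : ℤ) : ℂ) else 0

theorem alt_apply (γ β : Fin N → ℕ) :
    alt γ β = ∑ σ : Perm (Fin N), if γ ∘ σ = β then ((Perm.sign σ : ℤ) : ℂ) else 0 := rfl

theorem alt_comm (γ β : Fin N → ℕ) : alt γ β = alt β γ := by
  rw [alt_apply, alt_apply, ← Equiv.sum_comp (Equiv.inv (Perm (Fin N)))]
  refine sum_congr rfl fun σ _ => ?_
  simp only [Equiv.inv_apply, Perm.sign_inv]
  refine if_congr ?_ rfl rfl
  constructor
  · rintro rfl; funext j; simp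
  · rintro rfl; funext j; simp

theorem alt_mem (γ : Fin N → ℕ) : alt γ ∈ Anti N := by
  intro τ β
  rw [alt_apply, alt_apply, mul_sum, ← Equiv.sum_comp (Equiv.mulRight τ)]
  refine sum_congr rfl fun σ _ => ?_
  simp only [Equiv.coe_mulRight, Perm.sign_mul, Units.val_mul, Int.cast_mul]
  have : γ ∘ ⇑(σ * τ) = β ∘ τ ↔ γ ∘ σ = β := by
    rw [Perm.coe_mul, ← comp_assoc]
    exact τ.surjective.right_cancellable
  simp only [this]
  split_ifs
  · ring
  · simp

theorem alt_comp (γ : Fin N → ℕ) (τ : Perm (Fin N)) :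
    alt (γ ∘ τ) = ((Perm.sign τ : ℤ) : ℂ) • alt γ := by
  funext β
  rw [alt_comm, alt_mem β τ γ, alt_comm]; rfl

theorem alt_eq_zero {γ : Fin N → ℕ} (h : ¬ Injective γ) : alt γ = 0 := by
  funext β
  rw [alt_comm, Anti_eq_zero (alt_mem β) h]; rfl

theorem alt_self {γ : Fin N → ℕ} (h : Injective γ) : alt γ γ = 1 := by
  rw [alt_apply, sum_eq_single 1]
  · simp
  · intro σ _ hσ
    rw [if_neg]
    intro e
    apply hσ
    ext j
    simpa using congrArg Fin.val (h (congrFun e j))
  · simp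

theorem exists_of_alt_ne {γ β : Fin N → ℕ} (h : alt γ β ≠ 0) :
    ∃ σ : Perm (Fin N), γ ∘ σ = β := by
  obtain ⟨σ, -, hσ⟩ := exists_ne_zero_of_sum_ne_zero h
  exact ⟨σ, by by_contra e; exact hσ (if_neg e)⟩

theorem sum_comp_perm (γ : Fin N → ℕ) (σ : Perm (Fin N)) : ∑ j, (γ ∘ σ) j = ∑ j, γ j :=
  Equiv.sum_comp σ γ

/-- The vectors of degree `d`. -/
def deg (N d : ℕ) : Finset (Fin N → ℕ) := piAntidiag univ d

theorem mem_deg {d : ℕ} {γ : Fin N → ℕ} : γ ∈ deg N d ↔ ∑ j, γ j = d := by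
  simp [deg, mem_piAntidiag]

theorem sum_mul_alt {F : Fn N} (hF : F ∈ Anti N) {d : ℕ} {β : Fin N → ℕ} (hβ : ∑ j, β j = d) :
    ∑ γ ∈ deg N d, F γ * alt β γ = (N.factorial : ℂ) * F β := by
  simp only [alt_apply, mul_sum]
  rw [sum_comm]
  have : ∀ σ : Perm (Fin N), ∑ γ ∈ deg N d,
      F γ * (if β ∘ σ = γ then ((Perm.sign σ : ℤ) : ℂ) else 0) = F β := by
    intro σ
    rw [sum_eq_single (β ∘ σ)]
    · rw [if_pos rfl, hF, mul_comm, ← mul_assoc, sgn_mul_self, one_mul]
    · intro γ _ h; rw [if_neg (Ne.symm h), mul_zero]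
    · intro h; exact (h (mem_deg.2 (by rw [sum_comp_perm, hβ]))).elim
  simp only [this]
  simp [Fintype.card_perm]

open Classical in
theorem dn_alt (m : ℕ) (P : ℕ → Prop) (γ : Fin N → ℕ) :
    dn m P (alt γ) = ∑ j, if m ≤ γ j ∧ P (γ j - m) then alt (update γ j (γ j - m)) else 0 := by
  funext β
  rw [dn_apply, Finset.sum_apply]
  have h1 : ∀ j, (if P (β j) then alt γ (update β j (β j + m)) else 0) =
      ∑ σ : Perm (Fin N), if P (β j) ∧ γ ∘ σ = update β j (β j + m) then
        ((Perm.sign σ : ℤ) : ℂ) else 0 := by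
    intro j
    by_cases h : P (β j) <;> simp [h, alt_apply]
  have h2 : ∀ j, (if m ≤ γ j ∧ P (γ j - m) then alt (update γ j (γ j - m)) else 0) β =
      ∑ σ : Perm (Fin N), if (m ≤ γ j ∧ P (γ j - m)) ∧ update γ j (γ j - m) ∘ σ = β then
        ((Perm.sign σ : ℤ) : ℂ) else 0 := by
    intro j
    by_cases h : m ≤ γ j ∧ P (γ j - m)
    · simp only [h, and_self, if_true, true_and, alt_apply]
    · simp [h]
  simp only [h1, h2]
  rw [sum_comm]
  conv_rhs => rw [sum_comm]
  refine sum_congr rfl fun σ _ => ?_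
  conv_rhs => rw [← Equiv.sum_comp σ]
  refine sum_congr rfl fun j _ => if_congr ?_ rfl rfl
  rw [← update_comp_perm]
  constructor
  · rintro ⟨hP, e⟩
    have e1 : γ (σ j) = β j + m := by simpa using congrFun e j
    refine ⟨⟨by omega, by rwa [e1, Nat.add_sub_cancel]⟩, ?_⟩
    rw [e, update_idem, e1, Nat.add_sub_cancel, update_eq_self]
  · rintro ⟨⟨h3, hP⟩, rfl⟩
    simp only [update_self, update_idem]
    refine ⟨hP, ?_⟩
    rw [Nat.sub_add_cancel h3]
    exact (update_eq_self j (γ ∘ σ)).symm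

theorem sum_update (γ : Fin N → ℕ) (j : Fin N) (v : ℕ) :
    ∑ k, update γ j v k + γ j = ∑ k, γ k + v := by
  rw [sum_update_of_mem (mem_univ j), ← add_sum_erase univ γ (mem_univ j), sdiff_singleton_eq_erase]
  ring

/-- `up` only looks at one degree. -/
theorem up_congr {F G : Fn N} {d m : ℕ} (h : ∀ γ, ∑ j, γ j + m = d → F γ = G γ) (P : ℕ → Prop)
    {β : Fin N → ℕ} (hβ : ∑ j, β j = d) : up m P F β = up m P G β := by
  rw [up_apply, up_apply]
  refine sum_congr rfl fun j _ => ?_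
  split_ifs with hj
  · apply h
    have := sum_update β j (β j - m)
    omega
  · rfl

theorem U_eq_sum {p : ℕ} (hp : 0 < p) (m : ℕ) (F : Fn N) :
    U m F = ∑ i ∈ range p, up m (fun b => b % p = i) F := by
  funext γ
  rw [Finset.sum_apply, U_apply]
  simp only [up_apply]
  rw [sum_comm]
  refine sum_congr rfl fun j _ => ?_
  rw [sum_eq_single (γ j % p)]
  · simp
  · intro i _ hi
    rw [if_neg]
    exact fun h => hi h.2.symm
  · intro h; exact (h (mem_range.2 (Nat.mod_lt _ hp))).elim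

end Cfsg.Agent.SymCh
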