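import Cfsg.Agent.Sym.Def
import Cfsg.Agent.Block.Center
import Mathlib.Data.Nat.Choose.Factorization
import Mathlib.Data.Nat.Dist

/-!
# Defects and heights for blocks of symmetric groups
-/

namespace Cfsg.Agent.SymCh

open Finset Function Equiv Cfsg Cfsg.Agent.Char Cfsg.Agent.Block

variable {N : ℕ}

theorem dvd_dist_iff (q a b : ℕ) : q ∣ Nat.dist a b ↔ a % q = b % q := by
  rcases le_total a b with h | h
  · rw [Nat.dist_eq_sub_of_le h]; exact (Nat.modEq_iff_dvd' h).symm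
  · rw [Nat.dist_eq_sub_of_le_right h, eq_comm]; exact (Nat.modEq_iff_dvd' h).symm

theorem sum_card_Ioi (q : ℕ) {β : Fin N → ℕ} (h : Injective β) :
    ∑ i, #{j ∈ Ioi i | q ∣ Nat.dist (β j) (β i)} = ∑ j, rk q β j := by
  have h1 : ∑ i, #{j ∈ Ioi i | q ∣ Nat.dist (β j) (β i)} =
      ∑ i, ∑ j, if i < j ∧ β j % q = β i % q then 1 else 0 := by
    refine sum_congr rfl fun i _ => ?_
    rw [← card_filter]
    congr 1
    ext j
    simp [dvd_dist_iff]
  have h2 : ∑ i, #{j ∈ Ioi i | q ∣ Nat.dist (β j) (β i)} =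
      ∑ i, ∑ j, if j < i ∧ β i % q = β j % q then 1 else 0 := by
    rw [h1, sum_comm]
  refine Nat.eq_of_mul_eq_mul_left two_pos ?_
  rw [two_mul_sum_rk q h, two_mul]
  nth_rw 1 [h1]
  rw [h2, prs, ← sum_add_distrib]
  refine sum_congr rfl fun j _ => ?_
  rw [← sum_add_distrib, card_filter]
  refine sum_congr rfl fun k _ => ?_
  rcases lt_trichotomy j k with h3 | rfl | h3
  · simp [h3, h3.ne', h3.not_gt]
  · simp
  · simp [h3, h3.ne, h3.not_gt, eq_comm]

theorem norm_sub_eq_dist (a b : ℕ) : ‖(a : ℂ) - b‖ = Nat.dist a b := by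
  rcases le_total a b with h | h
  · rw [Nat.dist_eq_sub_of_le h, norm_sub_rev, ← Nat.cast_sub h, Complex.norm_natCast]
  · rw [Nat.dist_eq_sub_of_le_right h, ← Nat.cast_sub h, Complex.norm_natCast]

variable {α : Type*} [Fintype α] [DecidableEq α] {β : Fin N → ℕ} {χ : IrrCharacter (Perm α)}

theorem Lab.degree_mul (h : Lab β χ) :
    charDegree (χ : Perm α → ℂ) * ∏ j, (β j).factorial =
      (Fintype.card α).factorial * ∏ i, ∏ j ∈ Ioi i, Nat.dist (β j) (β i) := by
  have h1 := congrArg norm (st_one_mul _ β h.2.1)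
  obtain ⟨ε, hε, e⟩ := h.exists_eq
  have h2 : ‖st N (Multiset.replicate (Fintype.card α) 1) β‖ = charDegree (χ : Perm α → ℂ) := by
    rw [← Complex.norm_natCast, cast_charDegree χ.2.isCharacter, e, chi, parts_one, norm_mul]
    rcases mul_self_eq_one_iff.1 hε with rfl | rfl <;> simp
  simp only [norm_mul, h2, norm_prod, norm_sub_eq_dist, Complex.norm_natCast] at h1
  exact_mod_cast h1

theorem Lab.factorization_add (h : Lab β χ) {p : ℕ} (hp : p.Prime) {K : ℕ} (hK : ∀ j, β j < K) :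
    (charDegree (χ : Perm α → ℂ)).factorization p + ∑ i ∈ Ico 1 K, wt (p ^ i) β =
      (Fintype.card α).factorial.factorization p := by
  have hd : ∀ i, ∀ j ∈ Ioi i, Nat.dist (β j) (β i) ≠ 0 := fun i j hj e =>
    (mem_Ioi.1 hj).ne' (h.1 (Nat.eq_of_dist_eq_zero e))
  have h1 := congrArg (·.factorization p) h.degree_mul
  rw [Nat.factorization_mul (charDegree_ne_zero χ.2)
      (prod_ne_zero_iff.2 fun j _ => Nat.factorial_ne_zero _),
    Nat.factorization_mul (Nat.factorial_ne_zero _)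
      (prod_ne_zero_iff.2 fun i _ => prod_ne_zero_iff.2 (hd i)),
    Nat.factorization_prod fun j _ => Nat.factorial_ne_zero _,
    Nat.factorization_prod fun i _ => prod_ne_zero_iff.2 (hd i)] at h1
  simp only [Finsupp.add_apply, Finsupp.finsetSum_apply] at h1
  have h2 : ∑ j, (β j).factorial.factorization p = ∑ i ∈ Ico 1 K, ∑ j, β j / p ^ i := by
    rw [sum_comm]
    exact sum_congr rfl fun j _ => Nat.factorization_factorial hp
      ((Nat.log_le_self _ _).trans_lt (hK j))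
  have h3 : ∑ i, (∏ j ∈ Ioi i, Nat.dist (β j) (β i)).factorization p =
      ∑ k ∈ Ico 1 K, ∑ j, rk (p ^ k) β j := by
    simp only [← sum_card_Ioi _ h.1, card_filter]
    rw [sum_comm]
    refine sum_congr rfl fun i _ => ?_
    rw [Nat.factorization_prod (hd i), Finsupp.finsetSum_apply, sum_comm]
    refine sum_congr rfl fun j hj => ?_
    rw [← card_filter]
    refine Nat.factorization_eq_card_pow_dvd_of_lt hp (Nat.pos_of_ne_zero (hd i j hj)) ?_
    have h4 := hK i
    have h5 := hK j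
    have h6 := Nat.lt_pow_self hp.one_lt (n := K)
    rw [Nat.dist]
    omega
  have h4 : ∑ i ∈ Ico 1 K, ∑ j, β j / p ^ i =
      ∑ i ∈ Ico 1 K, wt (p ^ i) β + ∑ k ∈ Ico 1 K, ∑ j, rk (p ^ k) β j := by
    rw [← sum_add_distrib]
    exact sum_congr rfl fun i _ => (wt_add (pow_pos hp.pos i) h.1).symm
  omega

theorem sum_wt_le {p : ℕ} (hp : p.Prime) (hβ : Injective β) (K : ℕ) :
    ∑ i ∈ Ico 1 K, wt (p ^ i) β ≤ (p * wt p β).factorial.factorization p := by
  rw [Nat.factorization_factorial hp (b := K + (p * wt p β + 1))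
    ((Nat.log_le_self _ _).trans_lt (by omega))]
  refine le_trans (sum_le_sum fun i hi => ?_)
    (sum_le_sum_of_subset (Ico_subset_Ico_right (Nat.le_add_right _ _)))
  obtain ⟨k, rfl⟩ : ∃ k, i = k + 1 := ⟨i - 1, by have := (mem_Ico.1 hi).1; omega⟩
  rw [Nat.le_div_iff_mul_le (pow_pos hp.pos _), pow_succ', mul_left_comm, mul_comm _ (p ^ k)]
  exact Nat.mul_le_mul_left _ (mul_wt_le hp.pos (pow_pos hp.pos _) hβ)

theorem exists_bound (β : Fin N → ℕ) (L : ℕ) : ∃ K, L < K ∧ ∀ j, β j < K :=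
  ⟨∑ j, β j + L + 1, by omega, fun j => by
    have : β j ≤ ∑ j, β j := single_le_sum (fun _ _ => Nat.zero_le _) (mem_univ j)
    omega⟩

theorem Lab.le_factorization_add (h : Lab β χ) {p : ℕ} (hp : p.Prime) :
    (Fintype.card α).factorial.factorization p ≤
      (charDegree (χ : Perm α → ℂ)).factorization p + (p * wt p β).factorial.factorization p := by
  obtain ⟨K, -, hK⟩ := exists_bound β 0
  rw [← h.factorization_add hp hK]
  exact Nat.add_le_add_left (sum_wt_le hp h.1 K) _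

theorem Lab.factorization_add_le (h : Lab β χ) {p : ℕ} (hp : p.Prime) :
    (charDegree (χ : Perm α → ℂ)).factorization p + wt p β ≤
      (Fintype.card α).factorial.factorization p := by
  obtain ⟨K, h1, hK⟩ := exists_bound β 1
  rw [← h.factorization_add hp hK]
  refine Nat.add_le_add_left ?_ _
  simpa using single_le_sum (f := fun i => wt (p ^ i) β) (fun _ _ => Nat.zero_le _)
    (mem_Ico.2 ⟨le_rfl, h1⟩)

variable {p : ℕ} [hp : Fact p.Prime] {M : Ideal AlgInt} {B : Set (IrrCharacter (Perm α))}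
  {D : Subgroup (Perm α)}

theorem Lab.wt_eq (hN : Fintype.card α ≤ N) (hM : IsPModular p M) (hB : IsPBlock M B)
    {ψ : IrrCharacter (Perm α)} (hχ : χ ∈ B) (hψ : ψ ∈ B) {γ : Fin N → ℕ} (h : Lab β χ)
    (h' : Lab γ ψ) : wt p β = wt p γ := by
  have := sum_add_wt hp.out.pos h.1 h'.1 (h.resM_eq hN hM hB hχ hψ h')
  rw [h.2.1, h'.2.1] at this
  exact (Nat.eq_of_mul_eq_mul_left hp.out.pos (Nat.add_left_cancel this)).symm

theorem Lab.blockDefect_eq (hN : Fintype.card α ≤ N) (h : Lab β χ) (hM : IsPModular p M)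
    (hB : IsPBlock M B) (hχ : χ ∈ B) :
    blockDefect p B = (p * wt p β).factorial.factorization p := by
  classical
  refine le_antisymm ?_ ?_
  · obtain ⟨θ, hθ, h0⟩ := exists_blockHeight_eq_zero (p := p) ⟨χ, hχ⟩
    obtain ⟨γ, hγ⟩ := exists_lab_of_irr hN θ
    have := hγ.le_factorization_add hp.out
    rw [blockDefect_eq_of_height_zero hθ h0, h.wt_eq hN hM hB hχ hθ hγ, Nat.card_perm,
      Nat.card_eq_fintype_card]
    omega
  · obtain ⟨D, hD⟩ := exists_isDefectGroup hM hB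
    obtain ⟨P⟩ : Nonempty (Sylow p (Perm (Fin (p * wt p β)))) := inferInstance
    obtain ⟨e, he⟩ := h.exists_embedding hM hB hD hχ (by simp) P.isPGroup' P.1.subtype
    have h1 := Nat.card_le_card_of_injective
      (((Perm.viaEmbeddingHom e).comp P.1.subtype).codRestrict D he)
      fun a b hab => Subtype.ext (Perm.viaEmbeddingHom_injective e (congrArg Subtype.val hab))
    rwa [card_defectGroup hM hB hD, P.card_eq_multiplicity, Nat.card_perm, Nat.card_fin,
      Nat.pow_le_pow_iff_right hp.out.one_lt] at h1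

theorem Lab.exists_range_eq (hN : Fintype.card α ≤ N) (h : Lab β χ) (hM : IsPModular p M)
    (hB : IsPBlock M B) (hD : IsDefectGroup p M B D) (hχ : χ ∈ B) {γ K : Type*} [Fintype γ]
    [Group K] (hγ : Fintype.card γ ≤ p * wt p β)
    (hK : Nat.card K = p ^ (p * wt p β).factorial.factorization p) (f : K →* Perm γ)
    (hf : Injective f) : ∃ e : γ ↪ α, ((Perm.viaEmbeddingHom e).comp f).range = D := by
  obtain ⟨e, he⟩ := h.exists_embedding hM hB hD hχ hγ (IsPGroup.of_card hK) f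
  refine ⟨e, Subgroup.eq_of_le_of_card_ge (by rintro _ ⟨k, rfl⟩; exact he k) ?_⟩
  rw [card_defectGroup hM hB hD, h.blockDefect_eq hN hM hB hχ, ← hK]
  exact (Nat.card_congr (MonoidHom.ofInjective (f := (Perm.viaEmbeddingHom e).comp f)
    ((Perm.viaEmbeddingHom_injective e).comp hf)).toEquiv).le

theorem Lab.factorization_of_height_zero (hN : Fintype.card α ≤ N) (h : Lab β χ)
    (hM : IsPModular p M) (hB : IsPBlock M B) (hχ : χ ∈ B)
    (h0 : blockHeight p B (χ : Perm α → ℂ) = 0) :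
    (charDegree (χ : Perm α → ℂ)).factorization p + (p * wt p β).factorial.factorization p =
      (Fintype.card α).factorial.factorization p := by
  have h1 := h.factorization_add_le hp.out
  rw [← h.blockDefect_eq hN hM hB hχ, blockDefect_eq_of_height_zero hχ h0, Nat.card_perm,
    Nat.card_eq_fintype_card]
  omega

/-! ### Nakayama's conjecture -/

theorem exists_int_Us (ρ : Multiset ℕ) (κ : Fin N → ℕ) :
    ∀ γ, Us ρ (alt κ) γ ∈ (Int.castRingHom ℂ).range := by
  induction ρ using Multiset.induction_on with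
  | empty =>
    intro γ
    rw [Us_zero, alt_apply]
    refine sum_mem fun σ _ => ?_
    split_ifs
    · exact ⟨_, rfl⟩
    · exact zero_mem _
  | cons r ρ ih =>
    intro γ
    rw [Us_cons, U_apply]
    refine sum_mem fun j _ => ?_
    split_ifs
    · exact ih _
    · exact zero_mem _

theorem val_st_le (M : Ideal AlgInt) (ρ : Multiset ℕ) (γ : Fin N → ℕ) : val M (st N ρ γ) ≤ 1 := by
  obtain ⟨z, hz⟩ := exists_int_Us ρ (del N) γ
  have : st N ρ γ = z := hz.symm
  rw [this]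
  exact val_intCast_le_one z

theorem Lab.exists_int (h : Lab β χ) {q : ℕ} (hq : 0 < q) {κ : Fin N → ℕ} (hκ : Injective κ)
    (h0 : wt q κ = 0) (hr : resM q β = resM q κ) :
    ∃ a : ℤ, ∀ g σ, parts g = Multiset.replicate (wt q β) q + σ →
      (χ : Perm α → ℂ) g = a * st N σ κ := by
  obtain ⟨z, hz⟩ := exists_int_Us (Multiset.replicate (wt q β) q) κ β
  obtain ⟨ε, hε, e⟩ := h.exists_eq
  obtain ⟨u, rfl⟩ : ∃ u : ℤ, ε = u := by
    rcases mul_self_eq_one_iff.1 hε with rfl | rfl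
    · exact ⟨1, by simp⟩
    · exact ⟨-1, by simp⟩
  refine ⟨u * z, fun g σ hg => ?_⟩
  rw [e, chi, hg, st_add, Us_eq hq hκ h0 (st_mem σ) _ β
    (fun r hr => by rw [Multiset.eq_of_mem_replicate hr]) h.1 hr (by simp [mul_comm]), ← hz]
  simp only [eq_intCast, Int.cast_mul]
  ring

theorem Lab.conj_apply (h : Lab β χ) (g : Perm α) :
    starRingEnd ℂ ((χ : Perm α → ℂ) g) = (χ : Perm α → ℂ) g := by
  obtain ⟨ε, hε, e⟩ := h.exists_eq
  rw [e, map_mul, conj_chi]
  rcases mul_self_eq_one_iff.1 hε with rfl | rfl <;> simp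

theorem Lab.exists_val_eq_one (h : Lab β χ) (hM : IsPModular p M) (hB : IsPBlock M B)
    (hχ : χ ∈ B) {θ : Perm α → ℂ} (hθ : IsGeneralizedCharacter _ θ)
    (hc : ∀ g, starRingEnd ℂ (θ g) = θ g) (h1 : val M (om (χ : Perm α → ℂ) (regElt p θ)) = 1) :
    ∃ g σ, parts g = Multiset.replicate (wt p β) p + σ ∧ val M (θ g) = 1 := by
  obtain ⟨D, hD⟩ := exists_isDefectGroup hM hB
  obtain ⟨x, h2, h3⟩ := h.exists_fix hM hB hD hχ
  obtain ⟨y, hy, -, h4⟩ := exists_coeff_pPart_mem_defectGroup hM hB hD hχ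
    (regElt_mem_ZA hθ.isClassFunction) (regElt_mem_intAlg hθ) h1
  rw [coeff_regElt] at h4
  split_ifs at h4 with h5
  · simp at h4
  have h6 : x.Disjoint y := fun a => by
    by_cases ha : x a = a
    · exact Or.inl ha
    · exact Or.inr (h3 y hy h5 a (Perm.mem_support.2 ha))
  refine ⟨x * y, y.cycleType + Multiset.replicate (Fintype.card α - #(x * y).support) 1, ?_, ?_⟩
  · rw [parts_eq, h6.cycleType_mul, ← filter_parts x, h2, Multiset.filter_add,
      Multiset.filter_eq_self.2 fun r hr => by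
        rw [Multiset.eq_of_mem_replicate hr]; exact hp.out.two_le,
      Multiset.filter_eq_nil.2 fun r hr => by rw [Multiset.eq_of_mem_replicate hr]; omega,
      add_zero, add_assoc]
  · have h7 := val_gen_sub_pReg_lt_one hM hθ (x * y)
    rw [pReg_mul_eq h6.commute (orderOf_eq_pow_iff.2 ⟨1, by
      rw [pow_one, pow_eq_one_of_parts h2]⟩) h5] at h7
    exact val_eq_one_of_sub_lt (hc y ▸ h4) h7

theorem Lab.mem_of_resM_eq (hN : Fintype.card α ≤ N) (h : Lab β χ) (hM : IsPModular p M)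
    (hB : IsPBlock M B) (hχ : χ ∈ B) {γ : Fin N → ℕ} {ψ : IrrCharacter (Perm α)} (h' : Lab γ ψ)
    (hr : resM p γ = resM p β) : ψ ∈ B := by
  have hp0 := hp.out.pos
  have hw : wt p γ = wt p β := by
    have := sum_add_wt hp0 h.1 h'.1 hr.symm
    rw [h.2.1, h'.2.1] at this
    exact Nat.eq_of_mul_eq_mul_left hp0 (Nat.add_left_cancel this)
  have hB' := isPBlock_blockOf (M := M) ψ
  have hψ := self_mem_blockOf hM ψ
  obtain ⟨θ, hθ, h1⟩ := exists_val_om_regElt_eq_one hM hB
  obtain ⟨θ', hθ', h1'⟩ := exists_val_om_regElt_eq_one hM hB'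
  obtain ⟨δ, hδ⟩ := exists_lab_of_irr hN θ
  obtain ⟨δ', hδ'⟩ := exists_lab_of_irr hN θ'
  obtain ⟨a, ha⟩ := hδ.exists_int hp0 (injective_core hp0 h.1) (wt_core hp0 h.1)
    ((hδ.resM_eq hN hM hB hθ hχ h).trans (resM_core p β).symm)
  obtain ⟨a', ha'⟩ := hδ'.exists_int hp0 (injective_core hp0 h.1) (wt_core hp0 h.1)
    ((hδ'.resM_eq hN hM hB' hθ' hψ h').trans (hr.trans (resM_core p β).symm))
  rw [hδ.wt_eq hN hM hB hθ hχ h] at ha
  rw [hδ'.wt_eq hN hM hB' hθ' hψ h', hw] at ha'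
  have h2 : val M (a' : ℂ) = 1 := by
    obtain ⟨g, σ, h3, h4⟩ := h'.exists_val_eq_one hM hB' hψ θ'.2.isCharacter.isGen hδ'.conj_apply
      (h1' ψ hψ)
    rw [ha' g σ (hw ▸ h3)] at h4
    rw [val_eq_one_iff_not_lt (val_intCast_le_one _)]
    intro hc
    exact (val_mul_lt_one_left hc (val_st_le M σ _)).ne h4
  by_contra hc
  have h3 : θ' ∉ B := fun h3 => hc (block_eq_of_mem hM hB hB' h3 hθ' ▸ hψ)
  obtain ⟨g, σ, h4, h5⟩ := h.exists_val_eq_one hM hB hχ
    (θ := (a : ℂ) • (θ' : Perm α → ℂ) - (a' : ℂ) • (θ : Perm α → ℂ))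
    ((θ'.2.isCharacter.isGen.intCast_smul a).sub (θ.2.isCharacter.isGen.intCast_smul a'))
    (fun g => by simp [hδ.conj_apply, hδ'.conj_apply]) (by
      have : regElt p ((a : ℂ) • (θ' : Perm α → ℂ) - (a' : ℂ) • (θ : Perm α → ℂ)) =
          (a : ℂ) • regElt p (θ' : Perm α → ℂ) - (a' : ℂ) • regElt p (θ : Perm α → ℂ) := by
        refine ga_ext fun x => ?_
        by_cases hx : p ∣ orderOf x <;> simp [coeff_regElt, hx]
      rw [this, map_sub, map_smul, map_smul, om_regElt_eq_zero hM hB hχ h3, smul_zero, zero_sub,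
        Valuation.map_neg, smul_eq_mul, map_mul, h2, h1 χ hχ, one_mul])
  simp only [Pi.sub_apply, Pi.smul_apply, smul_eq_mul, ha g σ h4, ha' g σ h4] at h5
  rw [mul_left_comm, sub_self] at h5
  simp at h5

end Cfsg.Agent.SymCh
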