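import Cfsg.Agent.Sym.Chi
import Cfsg.Agent.Block.Height

/-!
# Blocks of symmetric groups lie inside the combinatorial blocks
-/

namespace Cfsg.Agent.SymCh

open Finset Function Equiv Cfsg Cfsg.Agent.Char Cfsg.Agent.Block
open scoped ComplexConjugate

variable {N : ℕ}

theorem exists_expand {F : Fn N} (hF : F ∈ Anti N) (m : ℕ) :
    ∃ c : Perm (Fin m) → ℂ, ∀ γ : Fin N → ℕ, ∑ j, γ j = m + d0 N →
      F γ = ∑ τ, c τ * st N (parts τ) γ := by
  refine ⟨fun τ => ((N.factorial : ℂ) * m.factorial)⁻¹ *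
    ∑ δ ∈ deg N (m + d0 N), F δ * chi δ τ, fun γ hγ => ?_⟩
  have h1 : ∑ τ : Perm (Fin m), (∑ δ ∈ deg N (m + d0 N), F δ * chi δ τ) * st N (parts τ) γ =
      (N.factorial : ℂ) * m.factorial * F γ := by
    simp only [sum_mul]
    rw [sum_comm, mul_right_comm, ← sum_mul_alt hF hγ, sum_mul]
    refine sum_congr rfl fun δ hδ => ?_
    have := sum_chi_mul_chi (α := Fin m) δ γ
    rw [Fintype.card_fin, if_pos (mem_deg.1 hδ)] at this
    simp only [mul_assoc]
    rw [← mul_sum, mul_comm (alt γ δ), ← this]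
    rfl
  simp only [mul_assoc]
  rw [← mul_sum, h1, ← mul_assoc, inv_mul_cancel₀, one_mul]
  exact mul_ne_zero (by exact_mod_cast N.factorial_ne_zero) (by exact_mod_cast m.factorial_ne_zero)

variable {α : Type*} [Fintype α] [DecidableEq α]

/-- Column orthogonality. -/
theorem sum_deg_chi_mul_chi (hN : Fintype.card α ≤ N) {π τ : Perm α} (h : ¬ IsConj π τ) :
    ∑ γ ∈ deg N (Fintype.card α + d0 N), chi γ π * chi γ τ = 0 := by
  have h1 : (∑ γ ∈ deg N (Fintype.card α + d0 N), chi γ π • (chi γ : Perm α → ℂ)) =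
      ∑ ψ : IrrCharacter (Perm α), ((N.factorial : ℂ) * conj ((ψ : Perm α → ℂ) π)) •
        (ψ : Perm α → ℂ) := by
    refine Cfsg.Agent.Char.Cfsg.IsClassFunction.ext_inner ?_ (isClassFunction_sum_smul_irr _)
      fun χ hχ => ?_
    · intro g k
      simp only [Finset.sum_apply, Pi.smul_apply, isClassFunction_chi _ g k]
    · obtain ⟨β, hβ⟩ := exists_lab_of_irr hN ⟨χ, hχ⟩
      obtain ⟨ε, hε, e⟩ := hβ.exists_eq
      have e' : χ = ε • chi β := funext e
      have hε' : conj ε = ε := by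
        rcases mul_self_eq_one_iff.1 hε with rfl | rfl <;> simp
      rw [classInner_sum_smul_irr _ ⟨χ, hχ⟩, classInner_sum_left]
      simp only [classInner_smul_left]
      change _ = _ * conj (χ π)
      rw [e', Pi.smul_apply, smul_eq_mul, map_mul, hε', conj_chi, mul_left_comm, chi,
        ← sum_mul_alt (st_mem _) hβ.2.1, mul_sum]
      refine sum_congr rfl fun γ hγ => ?_
      rw [classInner_smul_right, classInner_chi, if_pos (mem_deg.1 hγ), hε', chi]
      ring
  have h2 := congrFun h1 τ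
  simp only [Finset.sum_apply, Pi.smul_apply, smul_eq_mul, mul_assoc] at h2
  rw [h2, ← mul_sum]
  simp only [mul_comm (conj _)]
  rw [sum_irr_mul_conj_of_not_isConj fun e => h e.symm, mul_zero]

variable (α) in
/-- The class function of a Fock vector. -/
noncomputable def cf : Fn N →ₗ[ℂ] (Perm α → ℂ) where
  toFun F π := ∑ γ ∈ deg N (Fintype.card α + d0 N), F γ * chi γ π
  map_add' F G := by
    funext π
    simp only [Pi.add_apply, add_mul, sum_add_distrib]
  map_smul' c F := by
    funext π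
    simp only [Pi.smul_apply, smul_eq_mul, RingHom.id_apply, mul_sum, mul_assoc]

theorem cf_apply (F : Fn N) (π : Perm α) :
    cf α F π = ∑ γ ∈ deg N (Fintype.card α + d0 N), F γ * chi γ π := rfl

theorem cf_alt {β : Fin N → ℕ} (hβ : ∑ j, β j = Fintype.card α + d0 N) (π : Perm α) :
    cf α (alt β) π = N.factorial * chi β π := by
  rw [cf_apply, chi, ← sum_mul_alt (st_mem _) hβ]
  exact sum_congr rfl fun γ _ => mul_comm _ _

theorem cf_U (hN : Fintype.card α ≤ N) {F : Fn N} (hF : F ∈ Anti N) {r : ℕ} {π : Perm α}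
    (hr0 : 0 < r) (hr : r ∉ parts π) : cf α (U r F) π = 0 := by
  rw [cf_apply]
  by_cases hle : r ≤ Fintype.card α
  · obtain ⟨c, hc⟩ := exists_expand hF (Fintype.card α - r)
    have h1 : ∀ γ ∈ deg N (Fintype.card α + d0 N), U r F γ =
        ∑ τ, c τ * st N (r ::ₘ parts τ) γ := by
      intro γ hγ
      rw [up_congr (G := ∑ τ, c τ • st N (parts τ)) (fun δ hδ => ?_) _ (mem_deg.1 hγ), map_sum,
        Finset.sum_apply]
      · simp only [map_smul, Pi.smul_apply, smul_eq_mul, st_cons]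
      · rw [hc δ (by omega), Finset.sum_apply]; rfl
    rw [sum_congr rfl fun γ hγ => by rw [h1 γ hγ, sum_mul], sum_comm]
    refine sum_eq_zero fun τ _ => ?_
    obtain ⟨σ, hσ⟩ := exists_parts_eq α (ρ := r ::ₘ parts τ) (by
      intro t ht
      rcases Multiset.mem_cons.1 ht with rfl | ht
      · exact hr0
      · exact parts_pos ht) (by rw [Multiset.sum_cons, sum_parts, Fintype.card_fin]; omega)
    simp only [mul_assoc]
    rw [← mul_sum, ← hσ]
    refine mul_eq_zero_of_right _ (sum_deg_chi_mul_chi hN ?_)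
    rw [isConj_iff_parts, hσ]
    intro e
    exact hr (e ▸ Multiset.mem_cons_self _ _)
  · refine sum_eq_zero fun γ hγ => mul_eq_zero_of_left ?_ _
    rw [up_congr (G := 0) (fun δ hδ => Anti_eq_zero_of_lt hF (by omega)) _ (mem_deg.1 hγ), map_zero]
    rfl

open Classical in
/-- Cutting down to some residue classes. -/
noncomputable def cut (p : ℕ) (Q : Multiset ℕ → Prop) (F : Fn N) : Fn N :=
  fun γ => if Q (resM p γ) then F γ else 0

theorem cut_mem {p : ℕ} {Q : Multiset ℕ → Prop} {F : Fn N} (hF : F ∈ Anti N) :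
    cut p Q F ∈ Anti N := by
  intro σ γ
  rw [cut, cut, resM_comp]
  split_ifs
  · exact hF σ γ
  · simp

theorem cut_U {p r : ℕ} (hr : p ∣ r) (Q : Multiset ℕ → Prop) (F : Fn N) :
    cut p Q (U r F) = U r (cut p Q F) := by
  obtain ⟨r, rfl⟩ := hr
  funext γ
  simp only [cut, U_apply]
  split_ifs with h
  · refine sum_congr rfl fun j _ => ?_
    split_ifs with h1 h2
    · rfl
    · rw [resM_update γ j (sub_mul_mod h1)] at h2; exact (h2 h).elim
    · rfl
  · refine (sum_eq_zero fun j _ => ?_).symm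
    split_ifs with h1 h2
    · rw [resM_update γ j (sub_mul_mod h1)] at h2; exact (h h2).elim
    · rfl
    · rfl

theorem cf_cut_st (hN : Fintype.card α ≤ N) {p : ℕ} (hp : p.Prime) (Q : Multiset ℕ → Prop)
    {π τ : Perm α} (hπ : ¬ p ∣ orderOf π) (hτ : p ∣ orderOf τ) :
    cf α (cut p Q (st N (parts τ))) π = 0 := by
  obtain ⟨r, hr, hpr⟩ := (prime_dvd_orderOf_iff hp τ).1 hτ
  obtain ⟨ρ, hρ⟩ := Multiset.exists_cons_of_mem hr
  rw [hρ, st_cons, cut_U hpr]
  exact cf_U hN (cut_mem (st_mem _)) (parts_pos hr)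
    fun h => hπ ((prime_dvd_orderOf_iff hp π).2 ⟨r, h, hpr⟩)

theorem sum_reg_chi_mul_chi (hN : Fintype.card α ≤ N) {p : ℕ} (hp : p.Prime)
    {β δ : Fin N → ℕ} (hδ : ∑ j, δ j = Fintype.card α + d0 N) (h : resM p δ ≠ resM p β) :
    ∑ π : Perm α, (if p ∣ orderOf π then 0 else chi δ π * chi β π) = 0 := by
  classical
  set d := Fintype.card α + d0 N with hd
  let f : (Fin N → ℕ) → ℂ := fun γ => ∑ π : Perm α, if p ∣ orderOf π then 0 else chi γ π * chi β π
  let g : (Fin N → ℕ) → ℂ := fun γ => ∑ π : Perm α, if p ∣ orderOf π then chi γ π * chi β π else 0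
  have h1 : ∀ γ, resM p γ ≠ resM p β → f γ = -g γ := by
    intro γ hγ
    rw [eq_neg_iff_add_eq_zero, ← sum_add_distrib]
    have : alt β γ = 0 := by
      by_contra hc
      obtain ⟨σ, rfl⟩ := exists_of_alt_ne hc
      exact hγ (resM_comp _ _ _)
    have h2 := sum_chi_mul_chi (α := α) γ β
    rw [this, ite_self, mul_zero] at h2
    refine Eq.trans (sum_congr rfl fun π _ => ?_) h2
    split_ifs <;> simp
  have h2 : ∑ γ ∈ deg N d, (if resM p γ ≠ resM p β then g γ * f γ else 0) = 0 := by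
    have : ∀ γ ∈ deg N d, (if resM p γ ≠ resM p β then g γ * f γ else 0) =
        ∑ τ : Perm α, ∑ π : Perm α, if p ∣ orderOf τ ∧ ¬ p ∣ orderOf π then
          chi β τ * chi β π * (cut p (· ≠ resM p β) (st N (parts τ)) γ * chi γ π) else 0 := by
      intro γ _
      simp only [cut]
      split_ifs with h3
      · simp only [f, g, sum_mul_sum]
        refine sum_congr rfl fun τ _ => sum_congr rfl fun π _ => ?_
        by_cases h4 : p ∣ orderOf τ <;> by_cases h5 : p ∣ orderOf π <;> simp [h4, h5, chi]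
        ring
      · simp
    rw [sum_congr rfl this, sum_comm]
    refine sum_eq_zero fun τ _ => ?_
    rw [sum_comm]
    refine sum_eq_zero fun π _ => ?_
    split_ifs with h3
    · rw [← mul_sum, ← cf_apply, cf_cut_st hN hp _ h3.2 h3.1, mul_zero]
    · simp
  have h3 : ∀ γ, conj (f γ) = f γ := by
    intro γ
    simp only [f, map_sum]
    refine sum_congr rfl fun π _ => ?_
    split_ifs
    · simp
    · rw [map_mul, conj_chi, conj_chi]
  have h4 : ∑ γ ∈ deg N d, (if resM p γ ≠ resM p β then Complex.normSq (f γ) else 0) = 0 := by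
    apply Complex.ofReal_injective
    rw [Complex.ofReal_zero, ← neg_eq_zero.2 h2, Complex.ofReal_sum, ← sum_neg_distrib]
    refine sum_congr rfl fun γ _ => ?_
    split_ifs with h5
    · rw [← Complex.mul_conj, h3, ← neg_mul, ← h1 γ h5]
    · simp
  rw [sum_eq_zero_iff_of_nonneg fun γ _ => by
    split_ifs
    · exact Complex.normSq_nonneg _
    · exact le_rfl] at h4
  have h5 := h4 δ (mem_deg.2 hδ)
  rw [if_pos h, Complex.normSq_eq_zero] at h5
  exact h5

theorem Lab.resM_eq (hN : Fintype.card α ≤ N) {p : ℕ} [hp : Fact p.Prime] {M : Ideal AlgInt}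
    (hM : IsPModular p M) {B : Set (IrrCharacter (Perm α))} (hB : IsPBlock M B)
    {χ ψ : IrrCharacter (Perm α)} (hχ : χ ∈ B) (hψ : ψ ∈ B) {β γ : Fin N → ℕ} (h : Lab β χ)
    (h' : Lab γ ψ) : resM p β = resM p γ := by
  obtain ⟨θ, hθ, h1⟩ := exists_val_om_regElt_eq_one hM hB
  obtain ⟨δ, hδ⟩ := exists_lab_of_irr hN θ
  have key : ∀ χ ∈ B, ∀ β : Fin N → ℕ, Lab β χ → resM p β = resM p δ := by
    intro χ hχ β h
    by_contra hc
    have h2 := h1 χ hχ
    obtain ⟨ε, -, e⟩ := h.exists_eq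
    obtain ⟨ε', -, e'⟩ := hδ.exists_eq
    have h3 : ev (χ : Perm α → ℂ) (regElt p (θ : Perm α → ℂ)) = 0 := by
      have h4 := congrArg (ε * conj ε' * ·) (sum_reg_chi_mul_chi hN hp.out h.2.1 hc)
      simp only [mul_sum, mul_zero] at h4
      rw [ev_regElt]
      refine Eq.trans (sum_congr rfl fun π _ => ?_) h4
      split_ifs
      · simp
      · rw [e, e', map_mul, conj_chi]; ring
    rw [om, LinearMap.smul_apply, h3] at h2
    simp at h2
  rw [key χ hχ β h, key ψ hψ γ h']

end Cfsg.Agent.SymCh
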