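import Cfsg.Agent.Sym.Chi
import Cfsg.Agent.Char.Clifford
import Cfsg.Agent.Char.Restrict
import Mathlib.GroupTheory.SpecificGroups.Alternating

/-!
# Vanishing of characters of symmetric groups; restriction to subgroups of index two
-/

namespace Cfsg.Agent.SymCh

open Finset Function Equiv Cfsg Cfsg.Agent.Char

variable {N : ℕ}

theorem sum_le_mul_wt {q : ℕ} (hq : 0 < q) (ρ₂ : Multiset ℕ) (ρ₁ : Multiset ℕ) :
    ∀ β : Fin N → ℕ, (∀ r ∈ ρ₁, q ∣ r) → st N (ρ₁ + ρ₂) β ≠ 0 → ρ₁.sum ≤ q * wt q β := by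
  induction ρ₁ using Multiset.induction_on with
  | empty => simp
  | cons r ρ ih =>
    intro β hd h
    have hβ : Injective β := by by_contra hc; exact h (Anti_eq_zero (st_mem _) hc)
    rw [Multiset.cons_add, st_cons, U_apply] at h
    obtain ⟨j, -, hj⟩ := exists_ne_zero_of_sum_ne_zero h
    have h1 : r ≤ β j := by by_contra e; exact hj (if_neg e)
    rw [if_pos h1] at hj
    have h2 := ih _ (fun s hs => hd s (Multiset.mem_cons_of_mem hs)) hj
    obtain ⟨t, rfl⟩ := hd r (Multiset.mem_cons_self _ _)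
    have h3 := wt_update_sub hq hβ h1
      (by by_contra hc; exact hj (Anti_eq_zero (st_mem _) hc))
    rw [Multiset.sum_cons, ← h3, mul_add]
    omega

theorem st_replicate_ne_zero {n : ℕ} {β : Fin N → ℕ} (h : Injective β)
    (hs : ∑ j, β j = n + d0 N) : st N (Multiset.replicate n 1) β ≠ 0 := by
  intro e
  have := st_one_mul n β hs
  rw [e, zero_mul, eq_comm, mul_eq_zero] at this
  rcases this with h1 | h1
  · exact Nat.factorial_ne_zero _ (Nat.cast_eq_zero.1 h1)
  · obtain ⟨i, -, h2⟩ := prod_eq_zero_iff.1 h1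
    obtain ⟨j, hj, h3⟩ := prod_eq_zero_iff.1 h2
    exact (mem_Ioi.1 hj).ne' (h (Nat.cast_injective (sub_eq_zero.1 h3)))

/-- A single possible move. -/
theorem st_cons_eq_of_unique {r : ℕ} {ρ : Multiset ℕ} {β : Fin N → ℕ} {j : Fin N} (hj : r ≤ β j)
    (h : ∀ k, k ≠ j → r ≤ β k → ∃ l, l ≠ k ∧ β l + r = β k) :
    st N (r ::ₘ ρ) β = st N ρ (update β j (β j - r)) := by
  rw [st_cons, U_apply, sum_eq_single j, if_pos hj]
  · intro k _ hk
    split_ifs with h1
    · obtain ⟨l, hl, e⟩ := h k hk h1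
      exact Anti_eq_zero (st_mem _) fun hi => ne_of_injective_update hi hl (by omega)
    · rfl
  · simp

section Index

variable {G : Type*} [Group G] [Fintype G] {A : Subgroup G} [Fintype A] {χ : G → ℂ}

theorem isIrr_restrict_of_ne_zero (hA : A.index = 2) (hχ : IsIrrCharacter G χ) {x : G}
    (hx : x ∉ A) (h : χ x ≠ 0) : IsIrrCharacter A fun a : A => χ a := by
  have h1 := hχ.isCharacter.restrict A
  obtain ⟨n, hn⟩ := h1.exists_nat_inner h1
  have h2 := inner_restrict_re_le A χ
  have h3 := vanish_off_iff_inner_restrict A χ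
  rw [hn, hA, hχ.inner_self] at h2 h3
  have h4 : n ≠ 0 := by
    rintro rfl
    rw [Nat.cast_zero, classInner_self_eq_zero] at hn
    exact hχ.one_ne_zero (congrFun hn 1)
  have h5 : n ≠ 2 := by
    rintro rfl
    exact h (h3.2 (by simp) x hx)
  have h6 : n ≤ 2 := by
    simp only [Complex.natCast_re, Complex.one_re, mul_one] at h2
    exact_mod_cast h2
  obtain rfl : n = 1 := by omega
  exact h1.isGen.isIrr_of_inner_self (by simpa using hn) h1.one_re_nonneg

theorem restrict_cases [hN : A.Normal] (hA : A.index = 2) (hχ : IsIrrCharacter G χ) {θ : A → ℂ}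
    (hθ : IsIrrCharacter A θ) (h : classInner (fun a : A => χ a) θ ≠ 0) :
    (fun a : A => χ a) = θ ∨ ((∀ x, x ∉ A → χ x = 0) ∧ χ 1 = 2 * θ 1 ∧
      ∀ τ, τ ∉ A → (fun a : A => χ a) = θ + conjChar A θ τ) := by
  by_cases h0 : ∀ x, x ∉ A → χ x = 0
  swap
  · push Not at h0
    obtain ⟨x, hx, h1⟩ := h0
    exact Or.inl ((isIrr_restrict_of_ne_zero hA hχ hx h1).eq_of_inner_ne_zero hθ h)
  right
  have h1 := hχ.isCharacter.restrict A
  have h2 := clifford_inner_self A hχ hθ h
  have h3 := clifford_degree A hχ hθ h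
  rw [(vanish_off_iff_inner_restrict A χ).1 h0, hA, hχ.inner_self, mul_one] at h2
  obtain ⟨e, he⟩ := h1.exists_nat_inner hθ.isCharacter
  rw [he] at h2 h3
  have h4 : 2 = e ^ 2 * (inertia A θ).index := by exact_mod_cast h2
  have h5 : e = 1 := by
    have : e ^ 2 ≤ 2 := Nat.le_of_dvd two_pos ⟨_, h4⟩
    have h6 : e ≠ 0 := by rintro rfl; simp at h4
    by_contra h7
    have : 2 ^ 2 ≤ e ^ 2 := Nat.pow_le_pow_left (by omega) 2
    omega
  subst h5
  rw [one_pow, one_mul] at h4
  rw [← h4] at h3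
  refine ⟨h0, by simpa using h3, fun τ hτ => ?_⟩
  have h6 : inertia A θ = A := by
    have hle : A ≤ inertia A θ := le_inertia A hθ.isClassFunction
    have := Subgroup.relIndex_mul_index hle
    rw [← h4, hA] at this
    exact le_antisymm (Subgroup.relIndex_eq_one.1 (by omega)) hle
  have h7 : conjChar A θ τ ≠ θ := fun e => hτ (h6 ▸ (mem_inertia A).2 e)
  have h8 := h1.sub_irr hθ h
  have h9 := h8.eq_of_inner_ne_zero_of_one_eq (hθ.conjChar τ) (by
    rw [classInner_sub_left, classInner_restrict_conjChar hχ.isClassFunction,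
      hθ.inner_eq_zero (hθ.conjChar τ) h7.symm, sub_zero]
    exact h) (by
    simp only [Pi.sub_apply, conjChar_apply_one, OneMemClass.coe_one, h3]
    push_cast; ring)
  rw [← h9]; simp

end Index

variable {α : Type*} [Fintype α] [DecidableEq α]

theorem mem_alt_iff_parts (π : Perm α) :
    π ∈ alternatingGroup α ↔ Even (Fintype.card α + Multiset.card (parts π)) := by
  rw [Perm.mem_alternatingGroup, sign_eq_parts, neg_one_pow_eq_one_iff_even (by decide)]

end Cfsg.Agent.SymCh
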