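import Cfsg.Agent.Sym.Fock

/-!
# Weights and cores on the abacus; the operator `L₀`
-/

namespace Cfsg.Agent.SymCh

open Finset Function Equiv

variable {N : ℕ}

/-- The number of beads below bead `j` on its runner. -/
def rk (p : ℕ) (γ : Fin N → ℕ) (j : Fin N) : ℕ := #{k | γ k < γ j ∧ γ k % p = γ j % p}

/-- The `p`-weight. -/
def wt (p : ℕ) (γ : Fin N → ℕ) : ℕ := ∑ j, (γ j / p - rk p γ j)

/-- The multiset of residues. -/
def resM (p : ℕ) (γ : Fin N → ℕ) : Multiset ℕ := univ.val.map fun j => γ j % p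

/-- The number of ordered pairs of distinct beads on a common runner. -/
def prs (p : ℕ) (γ : Fin N → ℕ) : ℕ := ∑ j, #{k | k ≠ j ∧ γ k % p = γ j % p}

theorem lt_iff_div_lt {p a b : ℕ} (h : a % p = b % p) (hp : 0 < p) : a < b ↔ a / p < b / p := by
  have h1 := Nat.div_add_mod a p
  have h2 := Nat.div_add_mod b p
  constructor
  · intro hab
    by_contra hc
    have := Nat.mul_le_mul_left p (not_lt.1 hc)
    omega
  · intro hab
    have := Nat.mul_lt_mul_of_pos_left hab hp
    omega

theorem eq_of_div_eq {p a b : ℕ} (h : a % p = b % p) (h' : a / p = b / p) : a = b := by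
  rw [← Nat.div_add_mod a p, ← Nat.div_add_mod b p, h, h']

theorem rk_le {p : ℕ} (hp : 0 < p) {γ : Fin N → ℕ} (h : Injective γ) (j : Fin N) :
    rk p γ j ≤ γ j / p := by
  rw [rk, ← card_range (γ j / p)]
  refine card_le_card_of_injOn (fun k => γ k / p) ?_ ?_
  · intro k hk
    simp only [coe_filter, mem_univ, true_and, Set.mem_ofPred_eq] at hk
    simpa using (lt_iff_div_lt hk.2 hp).1 hk.1
  · intro k hk l hl e
    simp only [coe_filter, mem_univ, true_and, Set.mem_ofPred_eq] at hk hl
    exact h (eq_of_div_eq (hk.2.trans hl.2.symm) e)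

theorem wt_add {p : ℕ} (hp : 0 < p) {γ : Fin N → ℕ} (h : Injective γ) :
    wt p γ + ∑ j, rk p γ j = ∑ j, γ j / p := by
  rw [wt, ← sum_add_distrib]
  exact sum_congr rfl fun j _ => Nat.sub_add_cancel (rk_le hp h j)

theorem two_mul_sum_rk (p : ℕ) {γ : Fin N → ℕ} (h : Injective γ) :
    2 * ∑ j, rk p γ j = prs p γ := by
  have h1 : ∑ j, rk p γ j = ∑ j, ∑ k, if γ k < γ j ∧ γ k % p = γ j % p then 1 else 0 := by
    simp only [rk, card_filter]
  have h2 : ∑ j, rk p γ j = ∑ j, ∑ k, if γ j < γ k ∧ γ j % p = γ k % p then 1 else 0 := by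
    rw [h1, sum_comm]
  rw [two_mul]
  nth_rw 1 [h1]
  rw [h2, prs, ← sum_add_distrib]
  refine sum_congr rfl fun j _ => ?_
  rw [← sum_add_distrib, card_filter]
  refine sum_congr rfl fun k _ => ?_
  by_cases hk : k = j
  · subst hk; simp
  · have := h.ne hk
    by_cases hm : γ k % p = γ j % p
    · simp only [hm, and_true, ne_eq, hk, not_false_eq_true, if_true]
      rcases lt_or_gt_of_ne this with h3 | h3
      · simp [h3, not_lt.2 h3.le]
      · simp [h3, not_lt.2 h3.le]
    · simp [hm, Ne.symm hm]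

theorem count_resM (p : ℕ) (γ : Fin N → ℕ) (i : ℕ) :
    (resM p γ).count i = #{k | γ k % p = i} := by
  rw [resM, Multiset.count_map]
  simp only [eq_comm (a := i)]
  rfl

theorem prs_add (p : ℕ) (γ : Fin N → ℕ) :
    prs p γ + N = ((resM p γ).map fun i => (resM p γ).count i).sum := by
  conv_rhs => rw [resM, Multiset.map_map]
  change _ = ∑ j, (resM p γ).count (γ j % p)
  have : prs p γ + N = ∑ j, (#{k | k ≠ j ∧ γ k % p = γ j % p} + 1) := by
    rw [sum_add_distrib, prs]; simp
  rw [this]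
  refine sum_congr rfl fun j _ => ?_
  rw [count_resM, ← card_insert_of_notMem (a := j) (by simp)]
  congr 1
  ext k
  by_cases hk : k = j <;> simp [hk]

theorem prs_eq {p : ℕ} {β γ : Fin N → ℕ} (h : resM p β = resM p γ) : prs p β = prs p γ := by
  have h1 := prs_add p β
  have h2 := prs_add p γ
  rw [h] at h1
  omega

theorem sum_resM (p : ℕ) (γ : Fin N → ℕ) : (resM p γ).sum = ∑ j, γ j % p := rfl

theorem sum_eq_mul_add (p : ℕ) (γ : Fin N → ℕ) :
    ∑ j, γ j = p * ∑ j, γ j / p + (resM p γ).sum := by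
  rw [sum_resM, mul_sum, ← sum_add_distrib]
  exact sum_congr rfl fun j _ => (Nat.div_add_mod _ _).symm

/-- Degree and weight on a residue class. -/
theorem sum_add_wt {p : ℕ} (hp : 0 < p) {β γ : Fin N → ℕ} (hβ : Injective β) (hγ : Injective γ)
    (h : resM p β = resM p γ) : ∑ j, β j + p * wt p γ = ∑ j, γ j + p * wt p β := by
  have h1 := wt_add hp hβ
  have h2 := wt_add hp hγ
  have h3 := two_mul_sum_rk p hβ
  have h4 := two_mul_sum_rk p hγ
  have h5 := prs_eq h
  have h6 : ∑ j, rk p β j = ∑ j, rk p γ j := by omega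
  rw [sum_eq_mul_add p β, sum_eq_mul_add p γ, h, ← h1, ← h2, h6]
  ring

theorem resM_congr {p : ℕ} {β γ : Fin N → ℕ} (h : ∀ j, β j % p = γ j % p) :
    resM p β = resM p γ := by
  simp only [resM, h]

theorem resM_comp (p : ℕ) (γ : Fin N → ℕ) (σ : Perm (Fin N)) : resM p (γ ∘ σ) = resM p γ := by
  rw [resM, resM]
  conv_rhs => rw [← Multiset.map_univ_val_equiv σ, Multiset.map_map]
  rfl

theorem resM_update {p : ℕ} (γ : Fin N → ℕ) (j : Fin N) {v : ℕ} (h : v % p = γ j % p) :
    resM p (update γ j v) = resM p γ := by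
  refine resM_congr fun k => ?_
  by_cases hk : k = j
  · subst hk; simp [h]
  · rw [update_of_ne hk]

theorem resM_of_dvd {p q : ℕ} (hd : p ∣ q) {β γ : Fin N → ℕ} (h : resM q β = resM q γ) :
    resM p β = resM p γ := by
  have : ∀ γ : Fin N → ℕ, resM p γ = (resM q γ).map (· % p) := by
    intro γ
    rw [resM, resM, Multiset.map_map]
    congr 1
    funext j
    simp [Nat.mod_mod_of_dvd _ hd]
  rw [this, this, h]

theorem wt_comp {p : ℕ} (hp : 0 < p) {γ : Fin N → ℕ} (h : Injective γ) (σ : Perm (Fin N)) :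
    wt p (γ ∘ σ) = wt p γ := by
  have := sum_add_wt hp (h.comp σ.injective) h (resM_comp p γ σ)
  rw [sum_comp_perm] at this
  exact (Nat.eq_of_mul_eq_mul_left hp (by omega)).symm

theorem sub_mul_mod {p b r : ℕ} (h : p * r ≤ b) : (b - p * r) % p = b % p := by
  conv_rhs => rw [← Nat.sub_add_cancel h, Nat.add_mul_mod_self_left]

theorem wt_update_sub {p : ℕ} (hp : 0 < p) {γ : Fin N → ℕ} (h : Injective γ) {j : Fin N} {r : ℕ}
    (hr : p * r ≤ γ j) (h' : Injective (update γ j (γ j - p * r))) :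
    wt p (update γ j (γ j - p * r)) + r = wt p γ := by
  have h1 := sum_add_wt hp h' h (resM_update γ j (sub_mul_mod hr))
  have h2 := sum_update γ j (γ j - p * r)
  refine Nat.eq_of_mul_eq_mul_left hp ?_
  rw [mul_add]
  omega

theorem wt_update_add {p : ℕ} (hp : 0 < p) {γ : Fin N → ℕ} (h : Injective γ) {j : Fin N} {r : ℕ}
    (h' : Injective (update γ j (γ j + p * r))) :
    wt p (update γ j (γ j + p * r)) = wt p γ + r := by
  have h1 := sum_add_wt hp h' h (resM_update γ j (Nat.add_mul_mod_self_left _ _ _))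
  have h2 := sum_update γ j (γ j + p * r)
  refine Nat.eq_of_mul_eq_mul_left hp ?_
  rw [mul_add]
  omega

theorem injective_update {γ : Fin N → ℕ} (h : Injective γ) {j : Fin N} {v : ℕ}
    (hv : ∀ k, k ≠ j → γ k ≠ v) : Injective (update γ j v) := by
  intro a b e
  by_cases ha : a = j <;> by_cases hb : b = j
  · rw [ha, hb]
  · subst ha; rw [update_self, update_of_ne hb] at e; exact (hv b hb e.symm).elim
  · subst hb; rw [update_self, update_of_ne ha] at e; exact (hv a ha e).elim
  · rw [update_of_ne ha, update_of_ne hb] at e; exact h e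

theorem ne_of_injective_update {γ : Fin N → ℕ} {j : Fin N} {v : ℕ}
    (h : Injective (update γ j v)) {k : Fin N} (hk : k ≠ j) : γ k ≠ v := by
  intro e
  apply hk
  apply h
  rw [update_self, update_of_ne hk, e]

theorem wt_eq_zero_iff {p : ℕ} (hp : 0 < p) {γ : Fin N → ℕ} (h : Injective γ) :
    wt p γ = 0 ↔ ∀ j, rk p γ j = γ j / p := by
  rw [wt, sum_eq_zero_iff]
  refine ⟨fun h1 j => ?_, fun h1 j _ => by rw [h1]; simp⟩
  have := h1 j (mem_univ j)
  have := rk_le hp h j
  omega

/-- A bead can be moved when the weight is positive. -/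
theorem exists_move {p : ℕ} (hp : 0 < p) {γ : Fin N → ℕ} (h : Injective γ) (hw : wt p γ ≠ 0) :
    ∃ j, p ≤ γ j ∧ Injective (update γ j (γ j - p)) := by
  rw [Ne, wt_eq_zero_iff hp h] at hw
  obtain ⟨j, hj, hmin⟩ := exists_min_image (univ.filter fun j => rk p γ j ≠ γ j / p) γ
    (by push Not at hw; obtain ⟨j, hj⟩ := hw; exact ⟨j, by simpa using hj⟩)
  simp only [mem_filter, mem_univ, true_and] at hj hmin
  have h1 := rk_le hp h j
  have h2 : p ≤ γ j := by
    by_contra hc
    rw [Nat.div_eq_of_lt (not_le.1 hc)] at h1 hj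
    omega
  refine ⟨j, h2, injective_update h fun k hk e => ?_⟩
  have h3 : rk p γ k = γ k / p := by
    by_contra hc
    have := hmin k hc
    omega
  have h4 : γ j = γ k + p := by omega
  have h5 : γ j / p = γ k / p + 1 := by rw [h4, Nat.add_div_right _ hp]
  have h6 : γ k % p = γ j % p := by rw [h4, Nat.add_mod_right]
  have h7 : rk p γ k + 1 ≤ rk p γ j := by
    rw [rk, rk, ← card_insert_of_notMem (a := k) (by simp)]
    refine card_le_card fun l hl => ?_
    simp only [mem_insert, mem_filter, mem_univ, true_and] at hl ⊢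
    rcases hl with rfl | hl
    · exact ⟨by omega, h6⟩
    · exact ⟨by omega, hl.2.trans h6⟩
  omega

theorem wt_eq_zero_of {p : ℕ} (hp : 0 < p) {γ : Fin N → ℕ} (h : Injective γ)
    (H : ∀ j, p ≤ γ j → ∃ k, γ k + p = γ j) : wt p γ = 0 := by
  by_contra hw
  obtain ⟨j, h1, h2⟩ := exists_move hp h hw
  obtain ⟨k, hk⟩ := H j h1
  exact ne_of_injective_update h2 (k := k) (by rintro rfl; omega) (by omega)

theorem exists_pred_of_wt_zero {p : ℕ} (hp : 0 < p) {γ : Fin N → ℕ} (h : Injective γ)
    (hw : wt p γ = 0) {j : Fin N} {r : ℕ} (hr : p * r ≤ γ j) : ∃ k, γ k + p * r = γ j := by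
  rcases Nat.eq_zero_or_pos r with rfl | hr0
  · exact ⟨j, by simp⟩
  by_contra hc
  push Not at hc
  have := wt_update_sub hp h hr (injective_update h fun k _ e => hc k (by omega))
  omega

theorem mem_range_of_wt_zero {p : ℕ} (hp : 0 < p) {β γ : Fin N → ℕ} (hβ : Injective β)
    (hγ : Injective γ) (h : resM p β = resM p γ) (hwβ : wt p β = 0) (hwγ : wt p γ = 0)
    (j : Fin N) : ∃ k, γ k = β j := by
  by_contra hc
  push Not at hc
  have h1 : #{k | γ k % p = β j % p} ≤ β j / p := by
    rw [← card_range (β j / p)]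
    refine card_le_card_of_injOn (fun k => γ k / p) ?_ ?_
    · intro k hk
      simp only [coe_filter, mem_univ, true_and, Set.mem_ofPred_eq] at hk
      simp only [coe_range, Set.mem_Iio]
      rw [← lt_iff_div_lt hk hp]
      by_contra h2
      obtain ⟨r, hr⟩ : p ∣ γ k - β j := (Nat.modEq_iff_dvd' (not_lt.1 h2)).1 hk.symm
      obtain ⟨l, hl⟩ := exists_pred_of_wt_zero hp hγ hwγ (j := k) (r := r) (by omega)
      exact hc l (by omega)
    · intro k hk l hl e
      simp only [coe_filter, mem_univ, true_and, Set.mem_ofPred_eq] at hk hl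
      exact hγ (eq_of_div_eq (hk.trans hl.symm) e)
  rw [← count_resM, ← h, count_resM, ← (wt_eq_zero_iff hp hβ).1 hwβ j] at h1
  have h2 : rk p β j + 1 ≤ #{k | β k % p = β j % p} := by
    rw [rk, ← card_insert_of_notMem (a := j) (by simp)]
    refine card_le_card fun l hl => ?_
    simp only [mem_insert, mem_filter, mem_univ, true_and] at hl ⊢
    rcases hl with rfl | hl
    · rfl
    · exact hl.2
  omega

/-- Uniqueness of the core. -/
theorem exists_perm_of_wt_zero {p : ℕ} (hp : 0 < p) {β γ : Fin N → ℕ} (hβ : Injective β)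
    (hγ : Injective γ) (h : resM p β = resM p γ) (hwβ : wt p β = 0) (hwγ : wt p γ = 0) :
    ∃ σ : Perm (Fin N), γ ∘ σ = β := by
  choose f hf using mem_range_of_wt_zero hp hβ hγ h hwβ hwγ
  have hi : Injective f := fun a b e => hβ (by rw [← hf, ← hf, e])
  exact ⟨Equiv.ofBijective f (Finite.injective_iff_bijective.1 hi), funext hf⟩

/-- The core. -/
def core (p : ℕ) (γ : Fin N → ℕ) : Fin N → ℕ := fun j => γ j % p + p * rk p γ j

/-- `β` is aligned with `κ`. -/
def Al (p : ℕ) (β κ : Fin N → ℕ) : Prop :=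
  (∀ j, β j % p = κ j % p) ∧ ∀ j k, β j % p = β k % p → (β j < β k ↔ κ j < κ k)

theorem Al.rk_eq {p : ℕ} {β κ : Fin N → ℕ} (h : Al p β κ) (j : Fin N) : rk p β j = rk p κ j := by
  rw [rk, rk]
  congr 1
  ext k
  simp only [mem_filter, mem_univ, true_and, ← h.1]
  exact ⟨fun h1 => ⟨(h.2 _ _ h1.2).1 h1.1, h1.2⟩, fun h1 => ⟨(h.2 _ _ h1.2).2 h1.1, h1.2⟩⟩

theorem rk_lt_rk {p : ℕ} {γ : Fin N → ℕ} {j k : Fin N} (h : γ j % p = γ k % p) (h' : γ j < γ k) :
    rk p γ j < rk p γ k := by
  rw [rk, rk, ← Nat.add_one_le_iff, ← card_insert_of_notMem (a := j) (by simp)]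
  refine card_le_card fun l hl => ?_
  simp only [mem_insert, mem_filter, mem_univ, true_and] at hl ⊢
  rcases hl with rfl | hl
  · exact ⟨h', h⟩
  · exact ⟨by omega, hl.2.trans h⟩

theorem core_mod (p : ℕ) (γ : Fin N → ℕ) (j : Fin N) : core p γ j % p = γ j % p := by
  simp [core]

theorem core_div {p : ℕ} (hp : 0 < p) (γ : Fin N → ℕ) (j : Fin N) :
    core p γ j / p = rk p γ j := by
  rw [core, Nat.add_mul_div_left _ _ hp, Nat.div_eq_of_lt (Nat.mod_lt _ hp), zero_add]

theorem al_core {p : ℕ} (hp : 0 < p) {γ : Fin N → ℕ} (h : Injective γ) : Al p γ (core p γ) := by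
  refine ⟨fun j => (core_mod p γ j).symm, fun j k hjk => ?_⟩
  rw [lt_iff_div_lt (a := core p γ j) (by rw [core_mod, core_mod, hjk]) hp, core_div hp,
    core_div hp]
  refine ⟨rk_lt_rk hjk, fun h1 => ?_⟩
  rcases lt_trichotomy (γ j) (γ k) with h2 | h2 | h2
  · exact h2
  · rw [h h2] at h1; exact (lt_irrefl _ h1).elim
  · exact (lt_asymm h1 (rk_lt_rk hjk.symm h2)).elim

theorem Al.injective {p : ℕ} {β κ : Fin N → ℕ} (h : Al p β κ) (hβ : Injective β) :
    Injective κ := by
  intro j k e
  have h1 : β j % p = β k % p := by rw [h.1, h.1, e]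
  apply hβ
  have h2 := h.2 j k h1
  have h3 := h.2 k j h1.symm
  omega

theorem injective_core {p : ℕ} (hp : 0 < p) {γ : Fin N → ℕ} (h : Injective γ) :
    Injective (core p γ) := (al_core hp h).injective h

theorem wt_core {p : ℕ} (hp : 0 < p) {γ : Fin N → ℕ} (h : Injective γ) : wt p (core p γ) = 0 := by
  rw [wt_eq_zero_iff hp (injective_core hp h)]
  intro j
  rw [core_div hp, (al_core hp h).rk_eq]

theorem resM_core (p : ℕ) (γ : Fin N → ℕ) : resM p (core p γ) = resM p γ :=
  resM_congr (core_mod p γ)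

theorem sum_core {p : ℕ} (hp : 0 < p) {γ : Fin N → ℕ} (h : Injective γ) :
    ∑ j, core p γ j + p * wt p γ = ∑ j, γ j := by
  have := sum_add_wt hp (injective_core hp h) h (resM_core p γ)
  rwa [wt_core hp h, mul_zero, add_zero] at this

theorem mul_wt_le {p q : ℕ} (hp : 0 < p) (hq : 0 < q) {γ : Fin N → ℕ} (h : Injective γ) :
    q * wt (p * q) γ ≤ wt p γ := by
  have hpq := Nat.mul_pos hp hq
  have h1 := sum_core hpq h
  have h2 := sum_add_wt hp (injective_core hpq h) h
    (resM_of_dvd (dvd_mul_right p q) (resM_core _ γ))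
  refine Nat.le_of_mul_le_mul_left ?_ hp
  rw [← mul_assoc]
  omega

theorem Al.eq_of_wt_zero {p : ℕ} (hp : 0 < p) {β κ : Fin N → ℕ} (h : Al p β κ) (hβ : Injective β)
    (hwβ : wt p β = 0) (hwκ : wt p κ = 0) : β = κ := by
  funext j
  refine eq_of_div_eq (h.1 j) ?_
  rw [← (wt_eq_zero_iff hp hβ).1 hwβ j, ← (wt_eq_zero_iff hp (h.injective hβ)).1 hwκ j, h.rk_eq]

theorem Al.update_sub {p : ℕ} {β κ : Fin N → ℕ} (h : Al p β κ) (hβ : Injective β) {j : Fin N}
    (hj : p ≤ β j)
    (hi : Injective (update β j (β j - p))) : Al p (update β j (β j - p)) κ := by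
  have hm : (β j - p) % p = β j % p := by simpa using sub_mul_mod (p := p) (r := 1) (by simpa)
  have h1 : ∀ k, update β j (β j - p) k % p = β k % p := by
    intro k
    by_cases hk : k = j
    · subst hk; simp [hm]
    · rw [update_of_ne hk]
  have h2 : ∀ k, k ≠ j → β k % p = β j % p → (β k < β j - p ↔ β k < β j) := by
    intro k hk e
    refine ⟨fun h => by omega, fun h3 => ?_⟩
    have h4 := ne_of_injective_update hi hk
    obtain ⟨r, hr⟩ : p ∣ β j - β k := (Nat.modEq_iff_dvd' h3.le).1 e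
    rcases r with _ | _ | r
    · omega
    · omega
    · have : p * (r + 1 + 1) = p * r + 2 * p := by ring
      omega
  refine ⟨fun k => by rw [h1, h.1], fun k l hkl => ?_⟩
  rw [h1, h1] at hkl
  rw [← h.2 k l hkl]
  by_cases hk : k = j <;> by_cases hl : l = j
  · subst hk; subst hl; simp
  · subst hk
    rw [update_self, update_of_ne hl]
    have := h2 l hl hkl.symm
    have h4 := ne_of_injective_update hi hl
    have h5 : β l ≠ β k := hβ.ne hl
    omega
  · subst hl
    rw [update_self, update_of_ne hk]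
    exact h2 k hk hkl
  · rw [update_of_ne hk, update_of_ne hl]

theorem sum_Icc_ite_le {R a : ℕ} (h : a ≤ R) (f : ℕ → ℂ) :
    ∑ r ∈ Icc 1 R, (if r ≤ a then f r else 0) = ∑ r ∈ range a, f (r + 1) := by
  rw [← sum_filter, range_eq_Ico, sum_Ico_add' f 0 a 1]
  congr 1
  ext r
  simp only [mem_filter, mem_Icc, mem_Ico]
  omega

/-- The operator `L₀`. -/
theorem L0 {p : ℕ} (hp : 0 < p) {F : Fn N} (hF : F ∈ Anti N) (γ : Fin N → ℕ) {R : ℕ}
    (hR : ∀ j, γ j ≤ R) :
    (∑ r ∈ Icc 1 R, ∑ i ∈ range p,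
      up (p * r) (fun b => b % p = i) (dn (p * r) (fun b => b % p = i) F)) γ = wt p γ * F γ := by
  classical
  by_cases hγ : ¬ Injective γ
  · rw [Anti_eq_zero hF hγ, mul_zero]
    exact Anti_eq_zero (Submodule.sum_mem _ fun r _ => Submodule.sum_mem _ fun i _ =>
      up_mem (dn_mem hF _ _) _ _) hγ
  push Not at hγ
  let T : Fin N → Fin N → ℕ → ℂ := fun j k r =>
    F (update (update γ j (γ j - p * r)) k (update γ j (γ j - p * r) k + p * r))
  let S : Fin N → Fin N → ℂ := fun j k => ∑ r ∈ range (γ j / p), T j k (r + 1)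
  have h1 : ∀ r, (∑ i ∈ range p,
      up (p * r) (fun b => b % p = i) (dn (p * r) (fun b => b % p = i) F)) γ =
      ∑ j, ∑ k, if γ k % p = γ j % p then (if r ≤ γ j / p then T j k r else 0) else 0 := by
    intro r
    rw [Finset.sum_apply]
    simp only [up_apply]
    rw [sum_comm]
    refine sum_congr rfl fun j _ => ?_
    rw [sum_eq_single (γ j % p)]
    · by_cases hj : p * r ≤ γ j
      · have hj' : r ≤ γ j / p := (Nat.le_div_iff_mul_le hp).2 (by rwa [mul_comm])
        simp only [hj, hj', and_self, if_true, dn_apply]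
        refine sum_congr rfl fun k _ => ?_
        have e : update γ j (γ j - p * r) k % p = γ k % p := by
          by_cases hk : k = j
          · subst hk; simp [sub_mul_mod hj]
          · rw [update_of_ne hk]
        rw [e]
        by_cases hm : γ k % p = γ j % p
        · rw [if_pos hm, if_pos hm]
        · rw [if_neg hm, if_neg hm]
      · have hj' : ¬ r ≤ γ j / p := by rwa [Nat.le_div_iff_mul_le hp, mul_comm]
        simp [hj, hj']
    · intro i _ hi
      rw [if_neg]
      exact fun h => hi h.2.symm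
    · intro h; exact (h (mem_range.2 (Nat.mod_lt _ hp))).elim
  have h2 : (∑ r ∈ Icc 1 R, ∑ i ∈ range p,
      up (p * r) (fun b => b % p = i) (dn (p * r) (fun b => b % p = i) F)) γ =
      ∑ j, ∑ k, if γ k % p = γ j % p then S j k else 0 := by
    rw [Finset.sum_apply]
    simp only [h1]
    rw [sum_comm]
    refine sum_congr rfl fun j _ => ?_
    rw [sum_comm]
    refine sum_congr rfl fun k _ => ?_
    split_ifs
    · exact sum_Icc_ite_le ((Nat.div_le_self _ _).trans (hR j)) _
    · simp
  have h3 : ∀ j, S j j = (γ j / p : ℕ) * F γ := by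
    intro j
    have : ∀ r ∈ range (γ j / p), T j j (r + 1) = F γ := by
      intro r hr
      have hr' : p * (r + 1) ≤ γ j := by
        rw [mul_comm, ← Nat.le_div_iff_mul_le hp]; exact mem_range.1 hr
      simp only [T, update_self, update_idem, Nat.sub_add_cancel hr', update_eq_self]
    simp only [S]
    rw [sum_congr rfl this]
    simp
  have h4 : ∀ j k, k ≠ j → γ k % p = γ j % p → S j k + S k j = -F γ := by
    intro j k hk hm
    obtain ⟨a, ha⟩ : ∃ a, a = γ j / p := ⟨_, rfl⟩
    obtain ⟨b, hb⟩ : ∃ b, b = γ k / p := ⟨_, rfl⟩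
    obtain ⟨ρ, hρ⟩ : ∃ ρ, ρ = γ j % p := ⟨_, rfl⟩
    have ej : γ j = ρ + p * a := by rw [ha, hρ, Nat.mod_add_div]
    have ek : γ k = ρ + p * b := by rw [hb, hρ, ← hm, Nat.mod_add_div]
    let g : ℕ → ℂ := fun u => F (update (update γ j (ρ + p * u)) k (ρ + p * (a + b - u)))
    have g1 : ∀ u ∈ range (a + b + 1), g (a + b + 1 - 1 - u) = -g u := by
      intro u hu
      have hu' := mem_range.1 hu
      simp only [g]
      rw [← Anti_swap hF hk]
      congr 1
      funext l
      simp only [comp_apply]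
      rcases eq_or_ne l j with rfl | h5
      · simp [update_of_ne hk.symm]
      rcases eq_or_ne l k with rfl | h6
      · simp only [update_self, swap_apply_left, update_of_ne hk.symm]
        congr 2; omega
      · rw [swap_apply_of_ne_of_ne h6 h5]
        simp [update_of_ne h5, update_of_ne h6]
    have g2 : ∑ u ∈ range (a + b + 1), g u = 0 := by
      have := sum_range_reflect g (a + b + 1)
      rw [sum_congr rfl g1, sum_neg_distrib] at this
      linear_combination -this / 2
    have g3 : g a = F γ := by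
      simp only [g, Nat.add_sub_cancel_left, ← ej, ← ek, update_eq_self]
    have g4 : S j k = ∑ u ∈ range a, g u := by
      simp only [S, ← ha]
      rw [← sum_range_reflect g a]
      refine sum_congr rfl fun r hr => ?_
      have hr' := mem_range.1 hr
      obtain ⟨c, rfl⟩ : ∃ c, a = r + 1 + c := ⟨a - (r + 1), by omega⟩
      simp only [T, g, update_of_ne hk]
      have e1 : γ j - p * (r + 1) = ρ + p * (r + 1 + c - 1 - r) := by
        rw [ej, show r + 1 + c - 1 - r = c by omega, mul_add]; omega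
      have e2 : γ k + p * (r + 1) = ρ + p * (r + 1 + c + b - (r + 1 + c - 1 - r)) := by
        rw [ek, show r + 1 + c + b - (r + 1 + c - 1 - r) = b + (r + 1) by omega, mul_add p b]; omega
      rw [e1, e2]
    have g5 : S k j = ∑ u ∈ range b, g (a + 1 + u) := by
      simp only [S, ← hb]
      refine sum_congr rfl fun r hr => ?_
      have hr' := mem_range.1 hr
      obtain ⟨c, rfl⟩ : ∃ c, b = r + 1 + c := ⟨b - (r + 1), by omega⟩
      simp only [T, g, update_of_ne hk.symm]
      rw [update_comm hk]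
      have e1 : γ j + p * (r + 1) = ρ + p * (a + 1 + r) := by
        rw [ej, add_assoc a, mul_add p a, add_comm 1 r]; omega
      have e2 : γ k - p * (r + 1) = ρ + p * (a + (r + 1 + c) - (a + 1 + r)) := by
        rw [ek, show a + (r + 1 + c) - (a + 1 + r) = c by omega, mul_add]; omega
      rw [e1, e2]
    rw [show a + b + 1 = a + 1 + b by omega, sum_range_add, sum_range_succ, g3, ← g4, ← g5] at g2
    linear_combination g2
  have h5 : 2 * (∑ j, ∑ k, if γ k % p = γ j % p then S j k else 0) =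
      ∑ j, (2 * (γ j / p : ℕ) * F γ - (#{k | k ≠ j ∧ γ k % p = γ j % p} : ℕ) * F γ) := by
    rw [two_mul]
    nth_rw 2 [sum_comm]
    rw [← sum_add_distrib]
    refine sum_congr rfl fun j _ => ?_
    rw [← sum_add_distrib, ← add_sum_erase _ _ (mem_univ j), if_pos rfl, h3, card_filter,
      ← add_sum_erase _ _ (mem_univ j), if_neg (by simp), zero_add]
    push_cast
    rw [sum_mul, sub_eq_add_neg, ← sum_neg_distrib]
    congr 1
    · ring
    refine sum_congr rfl fun k hk => ?_
    have hk' := ne_of_mem_erase hk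
    by_cases hm : γ k % p = γ j % p
    · rw [if_pos hm, if_pos hm.symm, if_pos ⟨hk', hm⟩, h4 j k hk' hm]; simp
    · rw [if_neg hm, if_neg (Ne.symm hm), if_neg (fun h => hm h.2)]; simp
  rw [h2]
  have h6 := wt_add hp hγ
  have h7 := two_mul_sum_rk p hγ
  have h8 : ((∑ j, γ j / p : ℕ) : ℂ) * 2 = wt p γ * 2 + prs p γ := by
    rw [← h6, ← h7]; push_cast; ring
  rw [sum_sub_distrib, ← sum_mul, ← sum_mul, ← mul_sum, ← Nat.cast_sum, ← Nat.cast_sum] at h5
  change _ = _ - (prs p γ : ℂ) * _ at h5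
  linear_combination h5 / 2 + h8 * F γ / 2

/-- Positivity of the number of paths from the core. -/
theorem U_pow_alt_pos {p : ℕ} (hp : 0 < p) {κ : Fin N → ℕ} (hκ : wt p κ = 0) (w : ℕ) :
    ∀ β : Fin N → ℕ, Injective β → Al p β κ → wt p β = w →
      ∃ m : ℕ, 0 < m ∧ (U p ^ w) (alt κ) β = m := by
  induction w with
  | zero =>
    intro β hβ h hw
    obtain rfl := h.eq_of_wt_zero hp hβ hw hκ
    exact ⟨1, one_pos, by simp [alt_self hβ]⟩
  | succ w ih =>
    intro β hβ h hw
    have hA : (U p ^ w) (alt κ) ∈ Anti N := by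
      clear ih hw
      induction w with
      | zero => simpa using alt_mem κ
      | succ w ih => rw [pow_succ', Module.End.mul_apply]; exact up_mem ih _ _
    have h1 : ∀ j, ∃ m : ℕ, (p ≤ β j ∧ Injective (update β j (β j - p)) → 0 < m) ∧
        (if p ≤ β j then (U p ^ w) (alt κ) (update β j (β j - p)) else 0) = m := by
      intro j
      by_cases hj : p ≤ β j
      · by_cases hi : Injective (update β j (β j - p))
        · have := wt_update_sub hp hβ (j := j) (r := 1) (by simpa) (by simpa)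
          rw [mul_one] at this
          obtain ⟨m, hm, e⟩ := ih _ hi (h.update_sub hβ hj hi) (by omega)
          exact ⟨m, fun _ => hm, by rw [if_pos hj, e]⟩
        · exact ⟨0, fun h => (hi h.2).elim, by rw [if_pos hj, Anti_eq_zero hA hi]; simp⟩
      · exact ⟨0, fun h => (hj h.1).elim, by rw [if_neg hj]; simp⟩
    choose m hm using h1
    obtain ⟨j, hj⟩ := exists_move hp hβ (by omega)
    refine ⟨∑ j, m j, sum_pos' (fun _ _ => Nat.zero_le _) ⟨j, mem_univ _, (hm j).1 hj⟩, ?_⟩
    rw [pow_succ', Module.End.mul_apply, U_apply, Nat.cast_sum]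
    exact sum_congr rfl fun j _ => (hm j).2

end Cfsg.Agent.SymCh
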